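import Mathlib
import Cfsg.Agent.H409.FprBasic
import Cfsg.Agent.H398.FPR.Tools
import Cfsg.Agent.S0799
import Cfsg.Agent.S0809
import Cfsg.Agent.ClassicalGeometry.PSL2Solvable
import Cfsg.Agent.H398.FPR.Count
import Cfsg.Agent.S0253
import Cfsg.Agent.H436.TTPsl2
import Cfsg.Agent.H435.Fpr.AltTwo

/-!
# Fixed point ratios of 2-elements of `PSL₂(q)`, `q` odd
-/

set_option autoImplicit false
open Subgroup MulAction Matrix

namespace Cfsg.Agent.H398.FPR.PslTwo

open Cfsg.Agent.H409 Cfsg.Agent.ClassicalGeometry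

/-- The number of involutions. -/
noncomputable def inv2 (H : Type*) [Group H] : ℕ := Nat.card {y : H // orderOf y = 2}

theorem inv2_lt {H : Type*} [Group H] [Finite H] : inv2 H < Nat.card H := by
  classical
  have := Fintype.ofFinite H
  rw [inv2, Nat.card_eq_fintype_card, Nat.card_eq_fintype_card]
  refine Fintype.card_subtype_lt (x := 1) ?_
  rw [orderOf_one]
  norm_num

theorem inv2_le_of_injective {H K : Type*} [Group H] [Group K] [Finite K] {f : H →* K}
    (hf : Function.Injective f) : inv2 H ≤ inv2 K := by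
  refine Nat.card_le_card_of_injective (fun y : {y : H // orderOf y = 2} =>
    (⟨f y.1, by rw [orderOf_injective f hf, y.2]⟩ : {y : K // orderOf y = 2})) ?_
  intro a b h
  exact Subtype.ext (hf (congrArg Subtype.val h))

theorem inv2_A4 : inv2 (alternatingGroup (Fin 4)) ≤ 15 := by
  have h := inv2_lt (H := alternatingGroup (Fin 4))
  rw [nat_card_alternatingGroup, Nat.card_fin] at h
  have : (4).factorial / 2 = 12 := by decide
  omega

theorem inv2_le_sq {H : Type*} [Group H] [Fintype H] [DecidableEq H] {n : ℕ}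
    (h : (Finset.univ.filter fun y : H => y * y = 1).card ≤ n + 1) : inv2 H ≤ n := by
  rw [inv2, Nat.card_eq_fintype_card, Fintype.card_subtype]
  have h1 : (Finset.univ.filter fun y : H => orderOf y = 2) ⊆
      (Finset.univ.filter fun y : H => y * y = 1).erase 1 := by
    intro y hy
    rw [Finset.mem_filter] at hy
    rw [Finset.mem_erase, Finset.mem_filter]
    refine ⟨?_, Finset.mem_univ _, ?_⟩
    · rintro rfl
      rw [orderOf_one] at hy
      omega
    · rw [← pow_two, ← hy.2, pow_orderOf_eq_one]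
  have h2 := Finset.card_le_card h1
  rw [Finset.card_erase_of_mem (by simp)] at h2
  omega

theorem inv2_S4 : inv2 (Equiv.Perm (Fin 4)) ≤ 15 := by
  apply inv2_le_sq
  decide +kernel

theorem inv2_A5 : inv2 (alternatingGroup (Fin 5)) ≤ 15 := by
  apply inv2_le_sq
  decide +kernel

section Mat

variable {F : Type*} [Field F] [Fintype F]

open SLTwoFour

local notation "SL2" => Matrix.SpecialLinearGroup (Fin 2) F
local notation "π₂" => QuotientGroup.mk' (Subgroup.center (Matrix.SpecialLinearGroup (Fin 2) F))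

omit [Fintype F] in
theorem pi_eq_one {a : SL2} : π₂ a = 1 ↔ a = 1 ∨ a = -1 := by
  rw [← MonoidHom.mem_ker, QuotientGroup.ker_mk']
  exact PSL2Basic.mem_center_SL2_iff

/-- The involutions of the Borel subgroup. -/
theorem inv2_borel (hodd : Odd (Fintype.card F)) :
    inv2 ↥((PSL2Solvable.borel F).map π₂) ≤ Fintype.card F := by
  classical
  have h2 : (2 : F) ≠ 0 := (PSL2Basic.two_ne_zero_iff_odd F).2 hodd
  have key : ∀ t ∈ (PSL2Solvable.borel F).map π₂, orderOf t = 2 →
      ∃ b : SL2, π₂ b = t ∧ b 1 0 = 0 ∧ b 0 0 ^ 2 = -1 ∧ b 1 1 = -b 0 0 := by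
    rintro t ⟨b, hb, rfl⟩ ht
    rw [SetLike.mem_coe, PSL2Solvable.mem_borel_iff] at hb
    have h3 : π₂ (b * b) = 1 := by
      have h := pow_orderOf_eq_one (π₂ b)
      rw [ht, pow_two, ← map_mul] at h
      exact h
    have h4 : π₂ b ≠ 1 := by
      intro h
      rw [h, orderOf_one] at ht
      omega
    have h5 : b * b = -1 := by
      refine (pi_eq_one.1 h3).resolve_left fun h => ?_
      exact h4 (pi_eq_one.2 (eq_one_or_neg_one_of_mul_self h2 b h))
    have h6 := trace_of_mul_self b h5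
    have h7 : b 1 1 = -b 0 0 := by linear_combination h6
    have h8 := det2 b
    rw [hb, h7] at h8
    exact ⟨b, rfl, hb, by linear_combination -h8, h7⟩
  by_cases hi : ∃ i : F, i ^ 2 = -1
  · obtain ⟨i, hi⟩ := hi
    let f : F → Matrix.ProjectiveSpecialLinearGroup (Fin 2) F := fun z =>
      π₂ ⟨!![i, z; 0, -i], by rw [Matrix.det_fin_two]; simp; linear_combination -hi⟩
    have h1 : inv2 ↥((PSL2Solvable.borel F).map π₂) ≤ (Set.range f).ncard := by
      rw [inv2, ← Nat.card_coe_set_eq]
      refine Nat.card_le_card_of_injective (fun y => (⟨y.1.1, ?_⟩ : Set.range f)) ?_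
      · obtain ⟨b, hb1, hb2, hb3, hb4⟩ := key y.1.1 y.1.2 (by rw [orderOf_coe, y.2])
        have h5 : (b 0 0 - i) * (b 0 0 + i) = 0 := by linear_combination hb3 - hi
        rcases mul_eq_zero.1 h5 with h6 | h6
        · refine ⟨b 0 1, ?_⟩
          rw [← hb1]
          show π₂ _ = _
          congr 1
          refine ext2 ?_ rfl ?_ ?_
          · show i = _
            linear_combination -h6
          · exact hb2.symm
          · show -i = _
            rw [hb4]
            linear_combination h6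
        · refine ⟨-b 0 1, ?_⟩
          rw [← hb1]
          have h7 : π₂ b = π₂ (-b) := by
            have : (-b : SL2) = (-1) * b := by rw [neg_one_mul]
            rw [this, map_mul, pi_eq_one.2 (Or.inr rfl), one_mul]
          rw [h7]
          show π₂ _ = _
          congr 1
          refine ext2 ?_ ?_ ?_ ?_
          · show i = _
            rw [neg_ij]
            linear_combination h6
          · show -b 0 1 = _
            rw [neg_ij]
          · show 0 = _
            rw [neg_ij, hb2, neg_zero]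
          · show -i = _
            rw [neg_ij, hb4]
            linear_combination -h6
      · intro y z hyz
        have h9 : y.1.1 = z.1.1 := congrArg (fun v : Set.range f => v.1) hyz
        exact Subtype.ext (Subtype.ext h9)
    refine h1.trans ?_
    rw [← Set.image_univ]
    refine (Set.ncard_image_le).trans ?_
    rw [Set.ncard_univ, Nat.card_eq_fintype_card]
  · have h1 : inv2 ↥((PSL2Solvable.borel F).map π₂) = 0 := by
      rw [inv2, Nat.card_eq_zero]
      left
      refine ⟨fun y => hi ?_⟩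
      obtain ⟨b, -, -, hb3, -⟩ := key y.1.1 y.1.2 (by rw [orderOf_coe, y.2])
      exact ⟨_, hb3⟩
    omega

/-- The involutions of the normalizer of a Sylow subgroup in the defining characteristic. -/
theorem inv2_of_normalizer (hodd : Odd (Fintype.card F)) (p : ℕ) [Fact p.Prime] [CharP F p]
    (P : Sylow p (Matrix.ProjectiveSpecialLinearGroup (Fin 2) F))
    {K : Subgroup (Matrix.ProjectiveSpecialLinearGroup (Fin 2) F)}
    (hK : K ≤ Subgroup.normalizer ((P : Subgroup (Matrix.ProjectiveSpecialLinearGroup (Fin 2) F)) :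
        Set (Matrix.ProjectiveSpecialLinearGroup (Fin 2) F))) : inv2 K ≤ Fintype.card F := by
  obtain ⟨g, hg⟩ := PSL2Solvable.exists_le_map_borel p P
  refine (inv2_le_of_injective (Subgroup.inclusion_injective (hK.trans hg))).trans ?_
  refine le_trans ?_ (inv2_borel hodd)
  exact inv2_le_of_injective (f := (Subgroup.equivMapOfInjective _ _
    (MulAut.conj g).injective).symm.toMonoidHom) (MulEquiv.injective _)

/-- The centralizer of an involution. -/
theorem exists_involution {q : ℕ} (hq : Fintype.card F = q) (hodd : Odd q) :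
    ∃ x : Matrix.ProjectiveSpecialLinearGroup (Fin 2) F, orderOf x = 2 ∧
      (q % 4 = 1 → Nat.card (centralizer ({x} : Set _)) ≤ q - 1) ∧
      (q % 4 = 3 → Nat.card (centralizer ({x} : Set _)) ≤ q + 1) := by
  classical
  have h2 : (2 : F) ≠ 0 := (PSL2Basic.two_ne_zero_iff_odd F).2 (hq ▸ hodd)
  have ho : orderOf (w : SL2) = 4 := orderOf_of_mul_self h2 w w_mul_self
  have hA : Nat.card (zpowers (w : SL2)) = 4 := by rw [Nat.card_zpowers, ho]
  obtain ⟨-, h3, h4, -⟩ := S0809.result hq hodd (zpowers (w : SL2)) hA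
  have hsurj : Function.Surjective π₂ := QuotientGroup.mk'_surjective _
  have h5 : (centralizer ({π₂ w} : Set _)).comap π₂ ≤ normalizer (zpowers (w : SL2) : Set SL2) := by
    intro c hc
    rw [mem_comap, mem_centralizer_singleton_iff] at hc
    have h6 : π₂ (c * w * c⁻¹ * w⁻¹) = 1 := by
      rw [map_mul, map_mul, map_mul, map_inv, map_inv, hc, mul_assoc, mul_assoc]
      simp
    have h7 : c * w * c⁻¹ ∈ zpowers (w : SL2) := by
      rcases pi_eq_one.1 h6 with h | h
      · rw [mul_inv_eq_one] at h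
        rw [h]
        exact mem_zpowers _
      · have h8 : c * w * c⁻¹ = (w * w) * w := by
          rw [w_mul_self, ← h, inv_mul_cancel_right]
        rw [h8]
        exact mul_mem (mul_mem (mem_zpowers _) (mem_zpowers _)) (mem_zpowers _)
    refine Subgroup.mem_normalizer_fintype fun y hy => ?_
    obtain ⟨k, rfl⟩ := mem_zpowers_iff.1 hy
    have h9 : c * w ^ k * c⁻¹ = (c * w * c⁻¹) ^ k := (conj_zpow).symm
    rw [h9]
    exact zpow_mem h7 k
  have h6 : Nat.card (centralizer ({π₂ w} : Set _)) * 2 ≤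
      Nat.card (normalizer (zpowers (w : SL2) : Set SL2)) := by
    refine le_trans (le_of_eq ?_) (Subgroup.card_le_of_le h5)
    have h7 := Subgroup.index_comap_of_surjective (centralizer ({π₂ w} : Set _)) hsurj
    have h8 := ((centralizer ({π₂ w} : Set _)).comap π₂).card_mul_index
    have h9 := (centralizer ({π₂ w} : Set _)).card_mul_index
    have h10 := PSL2Basic.card_center_SL2_odd h2
    have h11 := Subgroup.card_eq_card_quotient_mul_card_subgroup
      (center (Matrix.SpecialLinearGroup (Fin 2) F))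
    rw [h10] at h11
    rw [h7, h11] at h8
    have h12 : 0 < (centralizer ({π₂ w} : Set _)).index := Nat.pos_of_ne_zero index_ne_zero_of_finite
    apply Nat.eq_of_mul_eq_mul_right h12
    rw [h8, mul_right_comm, h9]
  refine ⟨π₂ w, ?_, fun h => ?_, fun h => ?_⟩
  · apply orderOf_eq_prime
    · rw [← map_pow, pow_two, w_mul_self, pi_eq_one]
      exact Or.inr rfl
    · intro h
      rcases pi_eq_one.1 h with h | h
      · exact w_ne_one h
      · exact w_ne_neg_one h
  · exact Nat.le_of_mul_le_mul_right (c := 2) (h6.trans (by rw [h3 h]; omega)) (by norm_num)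
  · exact Nat.le_of_mul_le_mul_right (c := 2) (h6.trans (by rw [h4 h]; omega)) (by norm_num)

theorem row_main {q : ℕ} (hq : Fintype.card F = q) (hodd : Odd q) (h11 : 11 ≤ q) (h8 : q % 8 ≠ 1) :
    FprRow 3 1 2 (Matrix.ProjectiveSpecialLinearGroup (Fin 2) F) := by
  classical
  obtain ⟨x, hx, hC1, hC3⟩ := exists_involution hq hodd
  have hcard := PSL2Basic.card_PSL2_odd (F := F) (hq ▸ hodd)
  rw [hq] at hcard
  have hq2 : q ^ 2 - 1 = (q + 1) * (q - 1) := by
    have := Nat.sq_sub_sq q 1
    rwa [one_pow] at this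
  rw [hq2] at hcard
  intro H hH
  refine ⟨x, ⟨1, by rw [hx, pow_one]⟩, ?_⟩
  have h2 : Nat.card {y : H // orderOf y = orderOf x} = inv2 H := by rw [hx]; rfl
  -- it is enough to bound the number of involutions
  suffices hi : 6 * inv2 H ≤ q * (q - 1) by
    have h4 : q % 4 = 1 ∨ q % 4 = 3 := by
      obtain ⟨m, hm⟩ := hodd
      omega
    rcases h4 with h4 | h4
    · refine ratio_of_bound H (hC1 h4) h2.le ?_
      have h6 : 2 * (3 * ((q - 1) * inv2 H)) ≤
          2 * Nat.card (Matrix.ProjectiveSpecialLinearGroup (Fin 2) F) := by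
        calc 2 * (3 * ((q - 1) * inv2 H)) = (q - 1) * (6 * inv2 H) := by ring
          _ ≤ (q - 1) * (q * (q - 1)) := Nat.mul_le_mul_left _ hi
          _ ≤ (q - 1) * (q * (q + 1)) := by
              apply Nat.mul_le_mul_left
              apply Nat.mul_le_mul_left
              omega
          _ = q * ((q + 1) * (q - 1)) := by ring
          _ = 2 * Nat.card (Matrix.ProjectiveSpecialLinearGroup (Fin 2) F) := by
              rw [← hcard, mul_comm]
      omega
    · refine ratio_of_bound H (hC3 h4) h2.le ?_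
      have h6 : 2 * (3 * ((q + 1) * inv2 H)) ≤
          2 * Nat.card (Matrix.ProjectiveSpecialLinearGroup (Fin 2) F) := by
        calc 2 * (3 * ((q + 1) * inv2 H)) = (q + 1) * (6 * inv2 H) := by ring
          _ ≤ (q + 1) * (q * (q - 1)) := Nat.mul_le_mul_left _ hi
          _ = q * ((q + 1) * (q - 1)) := by ring
          _ = 2 * Nat.card (Matrix.ProjectiveSpecialLinearGroup (Fin 2) F) := by
              rw [← hcard, mul_comm]
      omega
  set g := Nat.card (Matrix.ProjectiveSpecialLinearGroup (Fin 2) F)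
  set h := Nat.card H
  set i := inv2 H
  have hpos : 0 < h := Nat.card_pos
  have hbig : 6 * q ≤ q * (q - 1) := by
    rw [mul_comm]
    apply Nat.mul_le_mul_left
    omega
  have hlt : i < h := inv2_lt
  obtain ⟨p, hp⟩ := CharP.exists F
  have hpp : Fact p.Prime := ⟨CharP.char_is_prime F p⟩
  have hgcd : Nat.gcd 2 (q - 1) = 2 := by
    obtain ⟨m, hm⟩ := hodd
    have : 2 ∣ q - 1 := ⟨m, by omega⟩
    exact Nat.gcd_eq_left this
  rcases S0799.result hq p H with ⟨k, hk, hk2⟩ | ⟨P, M, hM, ⟨e⟩⟩ | ⟨⟨e⟩⟩ | ⟨⟨e⟩⟩ | ⟨⟨e⟩⟩ |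
    ⟨K₀, i1, i2, m, hm, hK⟩
  · -- cyclic or dihedral
    rw [hgcd] at hk
    have hk3 : 2 * k ≤ q + 1 := by
      have hk4 : 0 < (q - 1) / 2 := by omega
      rcases hk with hk | hk
      · have := Nat.le_of_dvd (by omega) hk
        omega
      · have := Nat.le_of_dvd hk4 hk
        omega
    have hh : h ≤ q + 1 := by
      rcases hk2 with ⟨-, hk2⟩ | ⟨⟨e⟩⟩
      · have : h = k := hk2
        omega
      · have : h = 2 * k := by
          show Nat.card H = 2 * k
          rw [Nat.card_congr e.toEquiv, DihedralGroup.nat_card]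
        omega
    refine le_trans ?_ hbig
    omega
  · refine le_trans ?_ hbig
    have h3 : i ≤ inv2 M := inv2_le_of_injective (f := e.toMonoidHom) e.injective
    have h4 := inv2_of_normalizer (hq ▸ hodd) p P hM
    rw [hq] at h4
    omega
  · have h3 : i ≤ 15 := (inv2_le_of_injective (f := e.toMonoidHom) e.injective).trans inv2_A4
    nlinarith [Nat.sub_add_cancel (show 1 ≤ q by omega)]
  · have h3 : i ≤ 15 := (inv2_le_of_injective (f := e.toMonoidHom) e.injective).trans inv2_S4
    nlinarith [Nat.sub_add_cancel (show 1 ≤ q by omega)]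
  · have h3 : i ≤ 15 := (inv2_le_of_injective (f := e.toMonoidHom) e.injective).trans inv2_A5
    nlinarith [Nat.sub_add_cancel (show 1 ≤ q by omega)]
  · -- subfield groups
    set q₀ := Fintype.card K₀ with hq₀
    have hq₀2 : 1 < q₀ := Fintype.one_lt_card
    have hcK : h ∣ q₀ * (q₀ ^ 2 - 1) ∧ (m = 1 → h = g ∨ h = 2 * g) := by
      rcases hK with ⟨⟨e⟩⟩ | ⟨⟨e⟩⟩
      · have h3 : h = Nat.card (Matrix.ProjectiveSpecialLinearGroup (Fin 2) K₀) :=
          Nat.card_congr e.toEquiv
        have h4 := PSL2Basic.card_PSL2_gcd (F := K₀)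
        refine ⟨?_, fun hm1 => ?_⟩
        · rw [h3, hq₀, ← h4]
          exact dvd_mul_right _ _
        · left
          rw [hm1, pow_one] at hm
          rw [← h3, ← hq₀, hm, hgcd, hq2] at h4
          omega
      · have h3 : h = Nat.card (Matrix.ProjGenLinGroup (Fin 2) K₀) := Nat.card_congr e.toEquiv
        rw [PSL2Basic.card_PGL2] at h3
        refine ⟨h3 ▸ dvd_refl _, fun hm1 => ?_⟩
        right
        rw [hm1, pow_one] at hm
        rw [← hq₀, hm, hq2, ← hcard] at h3
        omega
    have hm0 : m ≠ 0 := by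
      rintro rfl
      rw [pow_zero] at hm
      omega
    have hm1 : m ≠ 1 := by
      intro hm1
      have hg : 0 < g := Nat.card_pos
      rcases hcK.2 hm1 with h3 | h3
      · exact hH (Subgroup.eq_top_of_card_eq H h3)
      · have h4 : h ∣ g := Subgroup.card_subgroup_dvd_card H
        have := Nat.le_of_dvd hg h4
        omega
    have hm2 : m ≠ 2 := by
      rintro rfl
      apply h8
      have h3 : Odd q₀ := by
        rw [← hm] at hodd
        exact (Nat.odd_pow_iff (by norm_num)).1 hodd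
      rw [← hm]
      obtain ⟨r, hr⟩ := h3
      rw [hr]
      obtain ⟨t, ht⟩ := Nat.even_mul_succ_self r
      have h4 : (2 * r + 1) ^ 2 = 8 * t + 1 := by
        have : (2 * r + 1) ^ 2 = 4 * (r * (r + 1)) + 1 := by ring
        rw [this, ht]
        ring
      omega
    have hm3 : q₀ ^ 3 ≤ q := by
      rw [← hm]
      exact Nat.pow_le_pow_right (by omega) (by omega)
    have h5 : q₀ * (q₀ ^ 2 - 1) ≤ q := by
      refine le_trans ?_ hm3
      calc q₀ * (q₀ ^ 2 - 1) ≤ q₀ * q₀ ^ 2 := Nat.mul_le_mul_left _ (Nat.sub_le _ _)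
        _ = q₀ ^ 3 := by ring
    have h6 : 0 < q₀ * (q₀ ^ 2 - 1) := by
      have : 2 ^ 2 ≤ q₀ ^ 2 := Nat.pow_le_pow_left hq₀2 2
      apply Nat.mul_pos <;> omega
    have h7 := Nat.le_of_dvd h6 hcK.1
    refine le_trans ?_ hbig
    omega

theorem i4_bound {H : Type*} [Group H] [Fintype H] [DecidableEq H] {n : ℕ}
    (h : (Finset.univ.filter fun y : H => y * y * (y * y) = 1 ∧ y * y ≠ 1).card ≤ n) :
    Nat.card {y : H // orderOf y = 4} ≤ n := by
  rw [Nat.card_eq_fintype_card, Fintype.card_subtype]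
  refine le_trans (Finset.card_le_card ?_) h
  intro y hy
  rw [Finset.mem_filter] at hy
  rw [Finset.mem_filter]
  have h4 : y ^ 4 = 1 := by rw [← hy.2, pow_orderOf_eq_one]
  refine ⟨Finset.mem_univ _, ?_, fun h2 => ?_⟩
  · rw [← pow_two, ← pow_two, ← pow_mul]
    exact h4
  · have h5 : orderOf y ∣ 2 := orderOf_dvd_of_pow_eq_one (by rw [pow_two, h2])
    rw [hy.2] at h5
    norm_num at h5

theorem i4_congr {H K : Type*} [Group H] [Group K] (e : H ≃* K) :
    Nat.card {y : H // orderOf y = 4} = Nat.card {y : K // orderOf y = 4} :=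
  Nat.card_congr (e.toEquiv.subtypeEquiv fun y => by
    show orderOf y = 4 ↔ orderOf (e y) = 4
    rw [MulEquiv.orderOf_eq])

theorem row_seven (hq : Fintype.card F = 7) :
    FprRow 3 1 2 (Matrix.ProjectiveSpecialLinearGroup (Fin 2) F) := by
  classical
  have hodd : Odd 7 := by decide
  obtain ⟨x, hx, -, hC3⟩ := exists_involution hq hodd
  have hC := hC3 (by norm_num)
  -- an element of order 4
  have h7 : (7 : F) = 0 := by
    have h1 : ((Fintype.card F : ℕ) : F) = 0 := Nat.cast_card_eq_zero F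
    rw [hq] at h1
    exact_mod_cast h1
  have h2 : (2 : F) ≠ 0 := (PSL2Basic.two_ne_zero_iff_odd F).2 (hq ▸ hodd)
  let s : SL2 := ⟨!![2, 2; -2, 2], by rw [Matrix.det_fin_two]; simp; linear_combination h7⟩
  have hs : s * s = w := by
    refine ext2 ?_ ?_ ?_ ?_
    · rw [mul00, w00]
      show (2 : F) * 2 + 2 * (-2) = 0
      ring
    · rw [mul01, w01]
      show (2 : F) * 2 + 2 * 2 = 1
      linear_combination h7
    · rw [mul10, w10]
      show (-2 : F) * 2 + 2 * (-2) = -1
      linear_combination -h7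
    · rw [mul11, w11]
      show (-2 : F) * 2 + 2 * 2 = 0
      ring
  have hw : orderOf (π₂ w) = 2 := by
    apply orderOf_eq_prime
    · rw [← map_pow, pow_two, w_mul_self, pi_eq_one]
      exact Or.inr rfl
    · intro h
      rcases pi_eq_one.1 h with h | h
      · exact w_ne_one h
      · exact w_ne_neg_one h
  have hs2 : (π₂ s) ^ 2 = π₂ w := by rw [← map_pow, pow_two, hs]
  have hs4 : orderOf (π₂ s) = 4 := by
    have h1 : orderOf (π₂ s) = 2 ^ (1 + 1) := by
      apply orderOf_eq_prime_pow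
      · rw [pow_one, hs2]
        intro h
        rw [h, orderOf_one] at hw
        omega
      · rw [pow_add, pow_one, pow_mul, hs2]
        have := pow_orderOf_eq_one (π₂ (w : SL2))
        rwa [hw] at this
    rw [h1]; norm_num
  obtain ⟨-, -, -, hcj⟩ := S0809.result hq hodd (zpowers (w : SL2)) (by
    rw [Nat.card_zpowers, orderOf_of_mul_self h2 w w_mul_self])
  obtain ⟨c, hc⟩ := isConj_iff.1 (hcj (π₂ w) x hw hx)
  have hCs : Nat.card (centralizer ({π₂ s} : Set (Matrix.ProjectiveSpecialLinearGroup (Fin 2) F))) ≤ 8 := by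
    refine le_trans ?_ hC
    refine Nat.card_le_card_of_injective
      (fun y : centralizer ({π₂ s} : Set (Matrix.ProjectiveSpecialLinearGroup (Fin 2) F)) =>
        (⟨c * y.1 * c⁻¹, ?_⟩ :
          centralizer ({x} : Set (Matrix.ProjectiveSpecialLinearGroup (Fin 2) F)))) ?_
    · have h3 := mem_centralizer_singleton_iff.1 y.2
      have h4 : y.1 * π₂ w = π₂ w * y.1 := by
        rw [← hs2, pow_two, ← mul_assoc, h3, mul_assoc, h3, mul_assoc]
      rw [mem_centralizer_singleton_iff, ← hc]
      calc c * y.1 * c⁻¹ * (c * π₂ w * c⁻¹) = c * (y.1 * π₂ w) * c⁻¹ := by group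
        _ = c * (π₂ w * y.1) * c⁻¹ := by rw [h4]
        _ = c * π₂ w * c⁻¹ * (c * y.1 * c⁻¹) := by group
    · intro y z hyz
      have h9 : c * y.1 * c⁻¹ = c * z.1 * c⁻¹ := congrArg Subtype.val hyz
      exact Subtype.ext (mul_left_cancel (mul_right_cancel h9))
  have hcard := PSL2Basic.card_PSL2_odd (F := F) (hq ▸ hodd)
  rw [hq] at hcard
  have hG : Nat.card (Matrix.ProjectiveSpecialLinearGroup (Fin 2) F) = 168 := by omega
  intro H hH
  refine ⟨π₂ s, ⟨2, by rw [hs4]; norm_num⟩, ?_⟩
  suffices hi : Nat.card {y : H // orderOf y = 4} ≤ 7 by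
    refine ratio_of_bound H hCs (i := 7) (by rw [hs4]; exact hi) ?_
    rw [hG]
  have hdvd : Nat.card H ∣ 168 := hG ▸ Subgroup.card_subgroup_dvd_card H
  have hlt : Nat.card {y : H // orderOf y = 4} < Nat.card H := by
    have := Fintype.ofFinite H
    rw [Nat.card_eq_fintype_card, Nat.card_eq_fintype_card]
    refine Fintype.card_subtype_lt (x := 1) ?_
    rw [orderOf_one]
    norm_num
  obtain ⟨p, hp⟩ := CharP.exists F
  have hpp : Fact p.Prime := ⟨CharP.char_is_prime F p⟩
  rcases S0799.result hq p H with ⟨k, hk, hk2⟩ | ⟨P, M, hM, ⟨e⟩⟩ | ⟨⟨e⟩⟩ | ⟨⟨e⟩⟩ | ⟨⟨e⟩⟩ |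
    ⟨K₀, i1, i2, m, hm, hK⟩
  · have hk3 : k ≤ 4 := by
      rcases hk with hk | hk
      · exact Nat.le_of_dvd (by norm_num) hk
      · exact (Nat.le_of_dvd (by norm_num) hk).trans (by norm_num)
    rcases hk2 with ⟨-, hk2⟩ | ⟨⟨e⟩⟩
    · omega
    · have : Nat.card H = 2 * k := by rw [Nat.card_congr e.toEquiv, DihedralGroup.nat_card]
      omega
  · obtain ⟨g, hg⟩ := PSL2Solvable.exists_le_map_borel p P
    have h1 : Nat.card H ∣ 21 := by
      rw [Nat.card_congr e.toEquiv]
      refine (Subgroup.card_dvd_of_le (hM.trans hg)).trans ?_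
      rw [Subgroup.card_map_of_injective (MulAut.conj g).injective]
      have h2 := H436.TT.index_borel (F := F)
      have h3 := ((PSL2Solvable.borel F).map π₂).card_mul_index
      have h4 : Nat.card ↥((PSL2Solvable.borel F).map π₂) * 8 = 21 * 8 := by
        refine Eq.trans ?_ (h3.trans hG)
        rw [h2, hq]
      rw [Nat.eq_of_mul_eq_mul_right (by norm_num) h4]
    have h2 : Nat.card {y : H // orderOf y = 4} = 0 := by
      rw [Nat.card_eq_zero]
      left
      refine ⟨fun y => ?_⟩
      have h3 : orderOf y.1 ∣ 21 := (orderOf_dvd_natCard y.1).trans h1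
      rw [y.2] at h3
      norm_num at h3
    omega
  · rw [i4_congr e]
    apply i4_bound
    decide +kernel
  · rw [i4_congr e]
    apply i4_bound
    decide +kernel
  · exfalso
    have h1 : Nat.card H = 60 := by
      rw [Nat.card_congr e.toEquiv, nat_card_alternatingGroup, Nat.card_fin]
      rfl
    rw [h1] at hdvd
    norm_num at hdvd
  · exfalso
    have hm1 : m = 1 := by
      have h1 : Fintype.card K₀ ∣ 7 := by
        rw [← hm]
        refine dvd_pow_self _ ?_
        rintro rfl
        norm_num at hm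
      have h2 : Fintype.card K₀ = 7 := by
        rcases (Nat.dvd_prime (by norm_num)).1 h1 with h | h
        · exact absurd h (Fintype.one_lt_card).ne'
        · exact h
      rw [h2] at hm
      have h3 : (7 : ℕ) ^ m = 7 ^ 1 := by rw [hm, pow_one]
      exact Nat.pow_right_injective (by norm_num) h3
    rw [hm1, pow_one] at hm
    rcases hK with ⟨⟨e⟩⟩ | ⟨⟨e⟩⟩
    · have h1 := PSL2Basic.card_PSL2_odd (F := K₀) (hm ▸ hodd)
      rw [hm, ← Nat.card_congr e.toEquiv] at h1
      have h2 : Nat.card H = Nat.card (Matrix.ProjectiveSpecialLinearGroup (Fin 2) F) := by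
        rw [hG]
        omega
      exact hH (Subgroup.eq_top_of_card_eq H h2)
    · have h1 := PSL2Basic.card_PGL2 (F := K₀)
      rw [hm, ← Nat.card_congr e.toEquiv] at h1
      rw [h1] at hdvd
      norm_num at hdvd

end Mat

section One

variable {F : Type*} [Field F] [Fintype F]

open LieClassical.SLTwoUnipotent

local notation "SL2" => Matrix.SpecialLinearGroup (Fin 2) F

/-- The diagonal matrix `diag (a, a⁻¹)`. -/
def dg (a : Fˣ) : SL2 := ⟨!![(a : F), 0; 0, (a⁻¹ : Fˣ)], by rw [Matrix.det_fin_two]; simp⟩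

omit [Fintype F] in
theorem dg_mul (a b : Fˣ) : dg a * dg b = dg (a * b) := by
  apply ext_coe
  show !![(a : F), 0; 0, (a⁻¹ : Fˣ)] * !![(b : F), 0; 0, (b⁻¹ : Fˣ)] =
    !![((a * b : Fˣ) : F), 0; 0, ((a * b)⁻¹ : Fˣ)]
  simp [mul_comm]

omit [Fintype F] in
theorem dg_one : dg (1 : Fˣ) = 1 := by
  apply ext_coe
  rw [LieClassical.SLTwoUnipotent.coe_one]
  show !![((1 : Fˣ) : F), 0; 0, ((1 : Fˣ)⁻¹ : Fˣ)] = _
  simp

omit [Fintype F] in
theorem dg_pow (a : Fˣ) (n : ℕ) : dg a ^ n = dg (a ^ n) := by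
  induction n with
  | zero => rw [pow_zero, pow_zero, dg_one]
  | succ n ih => rw [pow_succ, pow_succ, ih, dg_mul]

omit [Fintype F] in
theorem dg_u (a : Fˣ) (x : F) : dg a * u x * (dg a)⁻¹ = u ((a : F) ^ 2 * x) := by
  rw [mul_inv_eq_iff_eq_mul]
  apply ext_coe
  show !![(a : F), 0; 0, (a⁻¹ : Fˣ)] * !![1, x; 0, 1] =
    !![1, (a : F) ^ 2 * x; 0, 1] * !![(a : F), 0; 0, (a⁻¹ : Fˣ)]
  have ha : (a : F) ≠ 0 := a.ne_zero
  ext i j
  fin_cases i <;> fin_cases j <;> simp
  field_simp

omit [Fintype F] in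
theorem dg_l (a : Fˣ) (x : F) : dg a * l x * (dg a)⁻¹ = l (((a⁻¹ : Fˣ) : F) ^ 2 * x) := by
  rw [mul_inv_eq_iff_eq_mul]
  apply ext_coe
  show !![(a : F), 0; 0, (a⁻¹ : Fˣ)] * !![1, 0; x, 1] =
    !![1, 0; ((a⁻¹ : Fˣ) : F) ^ 2 * x, 1] * !![(a : F), 0; 0, (a⁻¹ : Fˣ)]
  have ha : (a : F) ≠ 0 := a.ne_zero
  ext i j
  fin_cases i <;> fin_cases j <;> simp
  field_simp

/-- The two root subgroups. -/
def uu : Multiplicative F →* SL2 where
  toFun x := u x.toAdd
  map_one' := u_zero
  map_mul' _ _ := u_add _ _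

def ll : Multiplicative F →* SL2 where
  toFun x := l x.toAdd
  map_one' := l_zero
  map_mul' _ _ := l_add _ _

omit [Fintype F] in
theorem uu_inj : Function.Injective (uu (F := F)) := by
  intro x y h
  exact congrArg (fun g : SL2 => (g : Matrix (Fin 2) (Fin 2) F) 0 1) h

omit [Fintype F] in
theorem ll_inj : Function.Injective (ll (F := F)) := by
  intro x y h
  exact congrArg (fun g : SL2 => (g : Matrix (Fin 2) (Fin 2) F) 1 0) h

omit [Fintype F] in
/-- Root subgroups with a torus element. -/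
theorem pair_aux {G : Type*} [Group G] [Finite G] {p j : ℕ} {x : G} (f : Multiplicative F →* G)
    (hf : Function.Injective f) {c d : F}
    (hc : ∀ z, x * f z * x⁻¹ = f (Multiplicative.ofAdd (c * z.toAdd)))
    (hd : ∀ z, x ^ p ^ j * f z * (x ^ p ^ j)⁻¹ = f (Multiplicative.ofAdd (d * z.toAdd)))
    (hd1 : d ≠ 1) : Pair p j x f.range := by
  refine Pair.of_free ?_ ?_ ?_
  · exact Group.nilpotent_of_surjective f.rangeRestrict f.rangeRestrict_surjective
  · refine Subgroup.mem_normalizer_fintype ?_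
    rintro _ ⟨z, rfl⟩
    exact ⟨_, (hc z).symm⟩
  · rintro _ ⟨z, rfl⟩ h
    rw [hd] at h
    have h1 := hf h
    have h3 : d * z.toAdd = z.toAdd := congrArg Multiplicative.toAdd h1
    have h4 : (d - 1) * z.toAdd = 0 := by linear_combination h3
    have h5 : z.toAdd = 0 := (mul_eq_zero.1 h4).resolve_left (sub_ne_zero.2 hd1)
    have h6 : z = 1 := h5
    rw [h6, map_one]

theorem pair_u {p j : ℕ} {a : Fˣ} (ha : a ^ (2 * p ^ j) ≠ 1) :
    Pair p j (dg a) (uu (F := F)).range := by
  refine pair_aux (c := (a : F) ^ 2) (d := ((a ^ p ^ j : Fˣ) : F) ^ 2) uu uu_inj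
    (fun z => dg_u a _) (fun z => ?_) ?_
  · rw [dg_pow]
    exact dg_u _ _
  · rw [← Units.val_pow_eq_pow_val, ← pow_mul, Ne, Units.val_eq_one, mul_comm]
    exact ha

theorem pair_l {p j : ℕ} {a : Fˣ} (ha : a ^ (2 * p ^ j) ≠ 1) :
    Pair p j (dg a) (ll (F := F)).range := by
  refine pair_aux (c := ((a⁻¹ : Fˣ) : F) ^ 2) (d := (((a ^ p ^ j)⁻¹ : Fˣ) : F) ^ 2) ll ll_inj
    (fun z => dg_l a _) (fun z => ?_) ?_
  · rw [dg_pow]
    exact dg_l _ _
  · rw [← Units.val_pow_eq_pow_val, inv_pow, ← pow_mul, Ne, Units.val_eq_one, mul_comm, inv_eq_one]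
    exact ha

/-- `T3` in `SL₂(q)`. -/
theorem good_sl {p j k : ℕ} (hp : p.Prime) {a : Fˣ} (ha : a ^ (2 * p ^ j) ≠ 1)
    (hak : a ^ p ^ k = 1) : UGood 2 (p ^ (j + 1) + 2) (dg a) := by
  classical
  apply T3_uGood (k := k) hp (by rw [dg_pow, hak, dg_one]) (pair_u ha) (pair_l ha)
  apply eq_top_of_u_mem_of_l_mem
  · intro x
    exact subset_closure (Or.inl (Or.inr ⟨Multiplicative.ofAdd x, rfl⟩))
  · intro x
    exact subset_closure (Or.inr ⟨Multiplicative.ofAdd x, rfl⟩)

theorem row_one (h8 : Fintype.card F % 8 = 1) :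
    FprRow 3 1 2 (Matrix.ProjectiveSpecialLinearGroup (Fin 2) F) := by
  classical
  have h1 : 8 ∣ Fintype.card F - 1 := ⟨Fintype.card F / 8, by omega⟩
  have h2 : Fintype.card F - 1 = Nat.card Fˣ := by rw [Nat.card_eq_fintype_card, Fintype.card_units]
  obtain ⟨g, hg⟩ := IsCyclic.exists_generator (α := Fˣ)
  have hog : orderOf g = Fintype.card F - 1 := by rw [h2, orderOf_eq_card_of_forall_mem_zpowers hg]
  obtain ⟨m, hm⟩ := h1
  have hm0 : m ≠ 0 := by
    rintro rfl
    have := Fintype.one_lt_card (α := F)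
    omega
  have ho : orderOf (g ^ m) = 8 := by
    rw [orderOf_pow_of_dvd hm0 (by rw [hog, hm]; exact dvd_mul_left _ _), hog, hm,
      Nat.mul_div_cancel _ (Nat.pos_of_ne_zero hm0)]
  have h3 : UGood 2 (2 ^ (1 + 1) + 2) (dg (g ^ m)) := by
    apply good_sl (k := 3) Nat.prime_two
    · intro h
      have := orderOf_dvd_of_pow_eq_one h
      rw [ho] at this
      norm_num at this
    · rw [show 2 ^ 3 = orderOf (g ^ m) by rw [ho]; norm_num]
      exact pow_orderOf_eq_one _
  have h4 : Good 1 3 2 (Matrix.SpecialLinearGroup (Fin 2) F) := by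
    refine (h3.mono (by norm_num) (by norm_num)).good ?_
    have h5 : dg (g ^ m) ^ 2 ^ 3 = 1 := by
      rw [dg_pow, show 2 ^ 3 = orderOf (g ^ m) by rw [ho]; norm_num, pow_orderOf_eq_one, dg_one]
    obtain ⟨i, -, hi⟩ := (Nat.dvd_prime_pow Nat.prime_two).1 (orderOf_dvd_of_pow_eq_one h5)
    exact ⟨i, hi⟩
  exact h4.of_surjective Nat.prime_two (f := QuotientGroup.mk' (Subgroup.center SL2))
    (QuotientGroup.mk'_surjective _)

end One

/-- **The row of `PSL₂(q)`, `q` odd, at the prime 2.** -/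
theorem row_psl_two {F : Type*} [Field F] [Fintype F] (hodd : Odd (Fintype.card F))
    (h5 : 5 ≤ Fintype.card F) : FprRow 3 1 2 (Matrix.ProjectiveSpecialLinearGroup (Fin 2) F) := by
  by_cases h8 : Fintype.card F % 8 = 1
  · exact row_one h8
  by_cases h7 : Fintype.card F = 7
  · exact row_seven h7
  by_cases h55 : Fintype.card F = 5
  · obtain ⟨e⟩ := S0253.result h55
    have h1 : Good 1 3 2 (alternatingGroup (Fin 5)) := H435.Fpr.fprRow_alternating_two le_rfl
    exact h1.of_surjective Nat.prime_two (f := e.symm.toMonoidHom) e.symm.surjective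
  · refine row_main rfl hodd ?_ h8
    obtain ⟨m, hm⟩ := hodd
    omega

end Cfsg.Agent.H398.FPR.PslTwo
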