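import Cfsg.Agent.H398.FPR.COne

/-!
# `p ∣ q - 1` in characteristic two: `Λ = 0` (orthogonal groups)

`T = ⟨a0, a1⟩`, `T' = ⟨b0, b1⟩`, `x` a scalar on `T` and on `T'`; two Heisenberg groups.
-/

set_option autoImplicit false
open Subgroup MulAction

namespace Cfsg.Agent.H398.FPR

open Cfsg.Agent.TitsThree.Siegel Cfsg.Agent.TitsThree.SiegelGen Cfsg.Agent.H110.Fpr
open Cfsg.Agent.H435.Fpr (PairM)

variable {F : Type*} [Field F] {V : Type*} [AddCommGroup V] [Module F V]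
variable {H : HForm F V} {P : PQ H}

/-- The commutator of two Siegel elements at orthogonal points is a root element. -/
theorem exists_comm {M : Submodule F V} {u v : V} (huu : H.h u u = 0) (hvv : H.h v v = 0)
    (huv : H.h u v = 0) (huM : ∀ m ∈ M, H.h u m = 0) (hvM : ∀ m ∈ M, H.h v m = 0) {m m' : V}
    (hm : m ∈ M) (hm' : m' ∈ M) (hmm' : H.h m m' ≠ 0) :
    ∃ (w : V) (d e : F) (hw : H.h v w = 0) (hum : H.h u m = 0), w ∈ M ∧ P.ok w d ∧ P.ok m e ∧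
      H.sie v w d hvv hw * H.sie u m e huu hum * (H.sie v w d hvv hw)⁻¹ *
        (H.sie u m e huu hum)⁻¹ = H.sie u v 0 huu huv := by
  obtain ⟨s, hs⟩ := exists_scale hmm' (-H.ε)
  have hsm : s • m' ∈ M := M.smul_mem _ hm'
  obtain ⟨d, hd⟩ := P.ex (s • m')
  obtain ⟨e, he⟩ := P.ex m
  have hvsm := hvM _ hsm
  have hum := huM m hm
  refine ⟨s • m', d, e, hvsm, hum, hsm, hd, he, ?_⟩
  have hgi : H.IsIso (H.sie v (s • m') d hvv hvsm) := P.isIso_sie _ _ hd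
  have e1 : H.sie v (s • m') d hvv hvsm u = u := by
    rw [H.sie_apply, huv, huM _ hsm]; simp
  have hmv : H.h m v = 0 := H.orth_symm (hvM m hm)
  have e2 : H.sie v (s • m') d hvv hvsm m = m + v := by
    rw [H.sie_apply, hmv, hs]
    have e3 : H.ε⁻¹ * -H.ε = -1 := by rw [mul_neg, inv_mul_cancel₀ H.ε_ne]
    rw [e3]
    module
  exact comm_eq hgi (c := e) huu hum huv e1 e2 hmv

/-- root elements at two orthogonal points -/
theorem rt_mid {M : Submodule F V} {D : Subgroup (V ≃ₗ[F] V)} {u v : V} (huu : H.h u u = 0)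
    (hvv : H.h v v = 0) (_huv : H.h u v = 0) (huM : ∀ m ∈ M, H.h u m = 0)
    (hvM : ∀ m ∈ M, H.h v m = 0) (hu : Zt P D (M : Set V) u) (hv : Zt P D (M : Set V) v)
    (hnd : ∃ m ∈ M, ∃ m' ∈ M, H.h m m' ≠ 0) : Rt H D u v := by
  intro s _ hus
  obtain ⟨m, hm, m', hm', hmm'⟩ := hnd
  have hsv : H.h (s • v) (s • v) = 0 := by rw [H.smul_left, H.smul_right, hvv]; simp
  obtain ⟨w, d, e, hw, hum, hwM, hd, he, hcomm⟩ := exists_comm (P := P) (M := M) huu hsv hus huM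
    (fun m hm => by rw [H.smul_left, hvM m hm, mul_zero]) hm hm' hmm'
  have h1 : H.sie u m e huu hum ∈ D := hu m e huu hum hm he
  have h2 : H.sie (s • v) w d hsv hw ∈ D := by
    rw [H.sie_smul v w d s hvv (hvM w hwM)]
    refine hv _ _ _ _ (M.smul_mem _ hwM) ?_
    have h3 := P.smul (H.σ s) hd
    rw [H.σσ] at h3
    exact P.congr h3 rfl (by ring)
  rw [← hcomm]
  exact D.mul_mem (D.mul_mem (D.mul_mem h2 h1) (D.inv_mem h2)) (D.inv_mem h1)

/-- Four points. -/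
theorem all_of_four {M : Submodule F V} {D : Subgroup (V ≃ₗ[F] V)} {u1 u2 u3 u4 : V}
    (s1 : P.ok u1 0) (s2 : P.ok u2 0) (s3 : P.ok u3 0) (s4 : P.ok u4 0)
    (h12 : H.h u1 u2 ≠ 0) (h13 : H.h u1 u3 = 0) (h14 : H.h u1 u4 = 0)
    (h23 : H.h u2 u3 = 0) (h24 : H.h u2 u4 = 0)
    (m1 : ∀ m ∈ M, H.h u1 m = 0) (m2 : ∀ m ∈ M, H.h u2 m = 0) (m3 : ∀ m ∈ M, H.h u3 m = 0)
    (m4 : ∀ m ∈ M, H.h u4 m = 0) (z1 : Zt P D (M : Set V) u1) (z2 : Zt P D (M : Set V) u2)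
    (z3 : Zt P D (M : Set V) u3) (z4 : Zt P D (M : Set V) u4)
    (hnd : ∃ m ∈ M, ∃ m' ∈ M, H.h m m' ≠ 0)
    (hspan : ∀ v : V, ∃ (c1 c2 c3 c4 : F) (m : V), m ∈ M ∧
      v = c1 • u1 + c2 • u2 + c3 • u3 + c4 • u4 + m)
    (hVnd : ∀ v : V, v ≠ 0 → ∃ w, H.h v w ≠ 0) : SG P ≤ D := by
  have key : ∀ (u1 u2 : V), P.ok u1 0 → P.ok u2 0 → H.h u1 u2 ≠ 0 → H.h u1 u3 = 0 →
      H.h u1 u4 = 0 → (∀ m ∈ M, H.h u1 m = 0) → Zt P D (M : Set V) u1 →
      (∀ v : V, ∃ (c1 c2 c3 c4 : F) (m : V), m ∈ M ∧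
        v = c1 • u1 + c2 • u2 + c3 • u3 + c4 • u4 + m) → Zt P D Set.univ u1 := by
    intro u1 u2 s1 s2 h12 h13 h14 m1 z1 hspan w c hx hw _ hwc
    obtain ⟨c1, c2, c3, c4, m, hm, rfl⟩ := hspan w
    have z0 : Zt P D {0} u1 := by
      intro w c hx hw hw0 hok
      rw [Set.mem_singleton_iff] at hw0
      exact z1 w c hx hw (by rw [hw0]; exact M.zero_mem) hok
    have zm : Zt P D {m} u1 := by
      intro w c hx hw hw0 hok
      rw [Set.mem_singleton_iff] at hw0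
      exact z1 w c hx hw (by rw [hw0]; exact hm) hok
    have hc2 : c2 = 0 := by
      rw [H.add_right, H.add_right, H.add_right, H.add_right, H.smul_right, H.smul_right,
        H.smul_right, H.smul_right, P.iso s1, h13, h14, m1 m hm] at hw
      have h0 : H.σ c2 * H.h u1 u2 = 0 := by
        linear_combination hw
      have h1 := (mul_eq_zero.1 h0).resolve_right h12
      simpa using h1
    subst hc2
    have r3 := Zt.of_rt P s1 s3 h13 z0 (rt_mid (P.iso s1) (P.iso s3) h13 m1 m3 z1 z3 hnd) c3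
    have r4 := Zt.of_rt P s1 s4 h14 z0 (rt_mid (P.iso s1) (P.iso s4) h14 m1 m4 z1 z4 hnd) c4
    have r1 := Zt.self P s1 z0 c1
    have k1 : H.h u1 (c1 • u1) = 0 := by rw [H.smul_right, P.iso s1, mul_zero]
    have k3 : H.h u1 (c3 • u3) = 0 := by rw [H.smul_right, h13, mul_zero]
    have k4 : H.h u1 (c4 • u4) = 0 := by rw [H.smul_right, h14, mul_zero]
    have t1 := Zt.add P s1 z0 r1 r3 k1 k3
    have k13 : H.h u1 (c1 • u1 + c3 • u3) = 0 := by rw [H.add_right, k1, k3, add_zero]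
    have t2 := Zt.add P s1 z0 t1 r4 k13 k4
    have k134 : H.h u1 (c1 • u1 + c3 • u3 + c4 • u4) = 0 := by rw [H.add_right, k13, k4, add_zero]
    have t3 := Zt.add P s1 z0 t2 zm k134 (m1 m hm)
    exact t3 _ c hx hw (by rw [Set.mem_singleton_iff]; module) hwc
  refine all_of_pair (key u1 u2 s1 s2 h12 h13 h14 m1 z1 hspan)
    (key u2 u1 s2 s1 (fun h => h12 (H.orth_symm h)) h23 h24 m2 z2 ?_) s1 s2
    (fun h => h12 (H.orth_symm h)) (fun v _ hv => hVnd v hv)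
  intro v
  obtain ⟨c1, c2, c3, c4, m, hm, rfl⟩ := hspan v
  exact ⟨c2, c1, c3, c4, m, hm, by module⟩

section Two

variable {a0 a1 b0 b1 : V}

theorem mem_span_two (a0 a1 : V) (v : V) :
    v ∈ Submodule.span F (Set.range ![a0, a1]) ↔ ∃ s t : F, v = s • a0 + t • a1 := by
  have : Set.range ![a0, a1] = {a0, a1} := by
    rw [Matrix.range_cons, Matrix.range_cons, Matrix.range_empty, Set.union_empty]
    rfl
  rw [this, Submodule.mem_span_pair]
  constructor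
  · rintro ⟨s, t, h⟩; exact ⟨s, t, h.symm⟩
  · rintro ⟨s, t, h⟩; exact ⟨s, t, h.symm⟩

theorem frame_two (sa0 : P.ok a0 0) (sa1 : P.ok a1 0) (sb0 : P.ok b0 0) (sb1 : P.ok b1 0)
    (haa : H.h a0 a1 = 0) (hbb : H.h b0 b1 = 0) (h00 : H.h a0 b0 = 1) (h11 : H.h a1 b1 = 1)
    (h01 : H.h a0 b1 = 0) (h10 : H.h a1 b0 = 0) : HFr P ![a0, a1] ![b0, b1] where
  es i := by fin_cases i <;> assumption
  fs i := by fin_cases i <;> assumption
  ee i j := by
    fin_cases i <;> fin_cases j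
    · exact P.iso sa0
    · exact haa
    · exact H.orth_symm haa
    · exact P.iso sa1
  ff i j := by
    fin_cases i <;> fin_cases j
    · exact P.iso sb0
    · exact hbb
    · exact H.orth_symm hbb
    · exact P.iso sb1
  ef i j := by
    fin_cases i <;> fin_cases j
    · simpa using h00
    · simpa using h01
    · simpa using h10
    · simpa using h11

theorem mem_mid_two {v : V} : v ∈ mid H ![a0, a1] ![b0, b1] ↔
    (H.h v a0 = 0 ∧ H.h v a1 = 0) ∧ H.h v b0 = 0 ∧ H.h v b1 = 0 := by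
  rw [mem_mid]
  constructor
  · rintro ⟨h1, h2⟩
    exact ⟨⟨h1 0, h1 1⟩, h2 0, h2 1⟩
  · rintro ⟨⟨h1, h2⟩, h3, h4⟩
    constructor
    · intro i; fin_cases i <;> assumption
    · intro i; fin_cases i <;> assumption

/-- `⟨R_T, z⟩ = G` for `1 ≠ z ∈ Z(R_T')`. -/
theorem over_heis (hfr : HFr P ![a0, a1] ![b0, b1]) (hlam : ∀ c, P.ok 0 c → c = 0)
    (hnd : ∀ v : V, v ≠ 0 → ∃ w, H.h v w ≠ 0)
    (hM : ∃ m ∈ mid H ![a0, a1] ![b0, b1], ∃ m' ∈ mid H ![a0, a1] ![b0, b1], H.h m m' ≠ 0)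
    {D : Subgroup (V ≃ₗ[F] V)}
    (hR : rad P (Submodule.span F (Set.range ![a0, a1]))
      (Submodule.span F (Set.range ![a0, a1]) ⊔ mid H ![a0, a1] ![b0, b1]) ≤ D)
    {z : V ≃ₗ[F] V} (hz : z ∈ zrad P (Submodule.span F (Set.range ![b0, b1]))
      (mid H ![a0, a1] ![b0, b1])) (hz1 : z ≠ 1) (hzD : z ∈ D) : SG P ≤ D := by
  have d := hfr.dec hnd
  obtain ⟨T, hT⟩ : ∃ T, T = Submodule.span F (Set.range ![a0, a1]) := ⟨_, rfl⟩
  obtain ⟨T', hT'⟩ : ∃ T', T' = Submodule.span F (Set.range ![b0, b1]) := ⟨_, rfl⟩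
  obtain ⟨M, hMM⟩ : ∃ M, M = mid H ![a0, a1] ![b0, b1] := ⟨_, rfl⟩
  rw [← hT, ← hT', ← hMM] at d
  rw [← hT, ← hMM] at hR
  rw [← hT', ← hMM] at hz
  rw [← hMM] at hM
  have mT : ∀ v, v ∈ T ↔ ∃ s t : F, v = s • a0 + t • a1 := fun v => by
    rw [hT]; exact mem_span_two a0 a1 v
  have mT' : ∀ v, v ∈ T' ↔ ∃ s t : F, v = s • b0 + t • b1 := fun v => by
    rw [hT']; exact mem_span_two b0 b1 v
  have ha0 : a0 ∈ T := (mT _).2 ⟨1, 0, by module⟩
  have ha1 : a1 ∈ T := (mT _).2 ⟨0, 1, by module⟩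
  have hb0 : b0 ∈ T' := (mT' _).2 ⟨1, 0, by module⟩
  have hb1 : b1 ∈ T' := (mT' _).2 ⟨0, 1, by module⟩
  have sa0 : P.ok a0 0 := hfr.es 0
  have sa1 : P.ok a1 0 := hfr.es 1
  have e00 : H.h a0 b0 = 1 := hfr.ef 0 0
  have e01 : H.h a0 b1 = 0 := hfr.ef 0 1
  have e10 : H.h a1 b0 = 0 := hfr.ef 1 0
  have e11 : H.h a1 b1 = 1 := hfr.ef 1 1
  have f00 : H.h b0 a0 = H.ε := hfr.fe 0 0
  have f01 : H.h b0 a1 = 0 := hfr.fe 0 1
  have f10 : H.h b1 a0 = 0 := hfr.fe 1 0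
  have f11 : H.h b1 a1 = H.ε := hfr.fe 1 1
  have haa := d.o1 a0 ha0 a1 ha1
  have hε := H.ε_ne
  have hzr := d.symm.inRad hz.1
  have hzS : z ∈ SG P := d.symm.rad_le_SG hz.1
  obtain ⟨hzi, hzok, hzok'⟩ := SG_iso hzS
  have hzm := d.symm.zrad_mid hz
  -- `z a0 = a0 + β b1`
  have hsing : ∀ {a : V}, a ∈ T → H.h (z a - a) a = 0 := by
    intro a ha
    have h1 := hzok a 0 (d.s1 a ha)
    have h2 := P.add (d.s1 a ha) (d.s2 _ (hzm a))
    have h3 : P.ok (z a) (0 + 0 - H.ε⁻¹ * H.h (z a - a) a) := by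
      exact P.congr h2 (by abel) rfl
    have h4 := hlam _ (P.sub h1 h3)
    have h5 : H.ε⁻¹ * H.h (z a - a) a = 0 := by linear_combination h4
    exact (mul_eq_zero.1 h5).resolve_left (inv_ne_zero hε)
  obtain ⟨β', β, hβ⟩ := (mT' _).1 (hzm a0)
  obtain ⟨γ, γ', hγ⟩ := (mT' _).1 (hzm a1)
  have hβ' : β' = 0 := by
    have h1 := hsing ha0
    rw [hβ, H.add_left, H.smul_left, H.smul_left, f00, f10] at h1
    have : β' * H.ε = 0 := by linear_combination h1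
    exact (mul_eq_zero.1 this).resolve_right hε
  have hγ' : γ' = 0 := by
    have h1 := hsing ha1
    rw [hγ, H.add_left, H.smul_left, H.smul_left, f01, f11] at h1
    have : γ' * H.ε = 0 := by linear_combination h1
    exact (mul_eq_zero.1 this).resolve_right hε
  have hza0 : z a0 = a0 + β • b1 := by
    have : z a0 = a0 + (z a0 - a0) := by abel
    rw [this, hβ, hβ']
    module
  have hza1 : z a1 = a1 + γ • b0 := by
    have : z a1 = a1 + (z a1 - a1) := by abel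
    rw [this, hγ, hγ']
    module
  have hrel : H.σ γ + β * H.ε = 0 := by
    have h1 := hzi a0 a1
    rw [hza0, hza1, haa, H.add_left, H.add_right, H.add_right, H.smul_left, H.smul_left,
      H.smul_right, H.smul_right, haa, e00, f11, d.o2 b1 hb1 b0 hb0] at h1
    linear_combination h1
  have hβ0 : β ≠ 0 := by
    intro h0
    have hγ0 : γ = 0 := by
      rw [h0, zero_mul, add_zero] at hrel
      simpa using hrel
    apply hz1
    ext v
    obtain ⟨t, ht, m, hm, t', ht', rfl⟩ := d.exists_eq v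
    obtain ⟨s, s', rfl⟩ := (mT t).1 ht
    show z (s • a0 + s' • a1 + m + t') = s • a0 + s' • a1 + m + t'
    rw [map_add, map_add, map_add, map_smul, map_smul, hza0, hza1, hz.2 m hm, hzr.fix t' ht', h0,
      hγ0]
    module
  have hγ0 : γ ≠ 0 := by
    intro h0
    rw [h0, map_zero, zero_add] at hrel
    exact hβ0 ((mul_eq_zero.1 hrel).resolve_right hε)
  -- the four points
  have zt : ∀ a ∈ T, Zt P D (M : Set V) a := by
    intro a ha w c hx hw hwM hok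
    exact hR (sie_mem_rad _ _ ha (Submodule.mem_sup_right hwM) hok)
  have ztz : ∀ a ∈ T, Zt P D (M : Set V) (z a) := by
    intro a ha w c hx hw hwM hok
    have h1 := D.mul_mem (D.mul_mem hzD (zt a ha w c (P.iso (d.s1 a ha)) (d.m1 a ha w hwM) hwM
      hok)) (D.inv_mem hzD)
    rw [H.conj_sie hzi] at h1
    rwa [H.sie_congr _ _ hx hw rfl (hz.2 w hwM) rfl] at h1
  have hzM : ∀ a ∈ T, ∀ m ∈ M, H.h (z a) m = 0 := by
    intro a ha m hm
    have h1 := hzi a m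
    rw [hz.2 m hm, d.m1 a ha m hm] at h1
    exact h1
  have hzz : H.h (z a1) (z a0) = 0 := by rw [hzi]; exact H.orth_symm haa
  refine all_of_four (M := M) (u1 := a0) (u2 := z a1) (u3 := a1) (u4 := z a0) sa0
    (hzok _ _ sa1) sa1 (hzok _ _ sa0) ?_ haa ?_ ?_ hzz (d.m1 a0 ha0) (hzM a1 ha1) (d.m1 a1 ha1)
    (hzM a0 ha0) (zt a0 ha0) (ztz a1 ha1) (zt a1 ha1) (ztz a0 ha0) hM ?_ hnd
  · rw [hza1, H.add_right, H.smul_right, haa, e00, zero_add, mul_one]
    intro h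
    exact hγ0 (by simpa using h)
  · rw [hza0, H.add_right, H.smul_right, P.iso sa0, e01, mul_zero, add_zero]
  · rw [hza1, H.add_left, H.smul_left, P.iso sa1, f01, mul_zero, add_zero]
  · intro v
    obtain ⟨t, ht, m, hm, t', ht', rfl⟩ := d.exists_eq v
    obtain ⟨s, s', rfl⟩ := (mT t).1 ht
    obtain ⟨r, r', rfl⟩ := (mT' t').1 ht'
    refine ⟨s - r' * β⁻¹, r * γ⁻¹, s' - r * γ⁻¹, r' * β⁻¹, m, hm, ?_⟩
    rw [hza0, hza1]
    have e1 : r * γ⁻¹ * γ = r := by rw [mul_assoc, inv_mul_cancel₀ hγ0, mul_one]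
    have e2 : r' * β⁻¹ * β = r' := by rw [mul_assoc, inv_mul_cancel₀ hβ0, mul_one]
    rw [smul_add, smul_add, smul_smul, smul_smul, e1, e2]
    module

/-- commutators in the radical act trivially on `M` -/
theorem Dec.comm_zrad {T M T' : Submodule F V} (d : Dec P T M T') : ∀ a ∈ rad P T (T ⊔ M),
    ∀ b ∈ rad P T (T ⊔ M), a * b * a⁻¹ * b⁻¹ ∈ zrad P T M := by
  intro a ha b hb
  refine mem_zrad.2 ⟨mul_mem (mul_mem (mul_mem ha hb) (inv_mem ha)) (inv_mem hb), ?_⟩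
  have ha' := d.inRad ha
  have hb' := d.inRad hb
  have hM : ∀ m ∈ M, ∀ t ∈ T, H.h m t = 0 := fun m hm t ht => H.orth_symm (d.m1 t ht m hm)
  -- `a b m = b a m`
  have key : ∀ m ∈ M, a (b m) = b (a m) := by
    intro m hm
    have h1 := ha'.mid m (hM m hm)
    have h2 := hb'.mid m (hM m hm)
    have e1 : a (b m) = a m + (b m - m) := by
      have : b m = m + (b m - m) := by abel
      conv_lhs => rw [this, map_add, ha'.fix _ h2]
    have e2 : b (a m) = b m + (a m - m) := by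
      have : a m = m + (a m - m) := by abel
      conv_lhs => rw [this, map_add, hb'.fix _ h1]
    rw [e1, e2]
    abel
  intro m hm
  show a (b (a⁻¹ (b⁻¹ m))) = m
  -- it suffices to apply `(b a)⁻¹`
  have h3 : a (b (a⁻¹ (b⁻¹ m))) = b (a (a⁻¹ (b⁻¹ m))) := by
    have hinv : InRad P T (a⁻¹ * b⁻¹) := d.inRad (mul_mem (inv_mem ha) (inv_mem hb))
    have h4 := hinv.mid m (hM m hm)
    have e3 : a⁻¹ (b⁻¹ m) = m + ((a⁻¹ * b⁻¹) m - m) := by
      show a⁻¹ (b⁻¹ m) = m + (a⁻¹ (b⁻¹ m) - m)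
      abel
    rw [e3, map_add, map_add, map_add, map_add, key m hm, hb'.fix _ h4, ha'.fix _ h4, hb'.fix _ h4]
  rw [h3]
  have e4 : a (a⁻¹ (b⁻¹ m)) = b⁻¹ m := a.apply_symm_apply _
  rw [e4]
  exact b.apply_symm_apply m

/-- the radical is not abelian, and its centre is not trivial -/
theorem rad_nonab (hfr : HFr P ![a0, a1] ![b0, b1]) (hnd : ∀ v : V, v ≠ 0 → ∃ w, H.h v w ≠ 0)
    (hM : ∃ m ∈ mid H ![a0, a1] ![b0, b1], ∃ m' ∈ mid H ![a0, a1] ![b0, b1], H.h m m' ≠ 0) :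
    ∃ a ∈ rad P (Submodule.span F (Set.range ![a0, a1]))
      (Submodule.span F (Set.range ![a0, a1]) ⊔ mid H ![a0, a1] ![b0, b1]),
    ∃ b ∈ rad P (Submodule.span F (Set.range ![a0, a1]))
      (Submodule.span F (Set.range ![a0, a1]) ⊔ mid H ![a0, a1] ![b0, b1]),
      a * b * a⁻¹ * b⁻¹ ≠ 1 := by
  have d := hfr.dec hnd
  have ha0 : a0 ∈ Submodule.span F (Set.range ![a0, a1]) :=
    (mem_span_two a0 a1 _).2 ⟨1, 0, by module⟩
  have ha1 : a1 ∈ Submodule.span F (Set.range ![a0, a1]) :=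
    (mem_span_two a0 a1 _).2 ⟨0, 1, by module⟩
  have haa := d.o1 a0 ha0 a1 ha1
  obtain ⟨m, hm, m', hm', hmm'⟩ := hM
  obtain ⟨w, c, e, hw, hum, hwM, hc, he, hcomm⟩ := exists_comm (P := P) (d.o1 a0 ha0 a0 ha0)
    (d.o1 a1 ha1 a1 ha1) haa (d.m1 a0 ha0) (d.m1 a1 ha1) hm hm' hmm'
  refine ⟨_, sie_mem_rad (d.o1 a1 ha1 a1 ha1) hw ha1 (Submodule.mem_sup_right hwM) hc, _,
    sie_mem_rad (d.o1 a0 ha0 a0 ha0) hum ha0 (Submodule.mem_sup_right hm) he, ?_⟩
  rw [hcomm]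
  intro h
  have h1 : H.sie a0 a1 0 (d.o1 a0 ha0 a0 ha0) haa b0 = b0 := by rw [h]; rfl
  have f00 : H.h b0 a0 = H.ε := hfr.fe 0 0
  have f01 : H.h b0 a1 = 0 := hfr.fe 0 1
  rw [H.sie_apply, f00, f01] at h1
  have h2 : H.ε • a1 = 0 := by
    have h3 : b0 + H.ε • a1 = b0 := by simpa using h1
    exact left_eq_add.1 h3.symm
  have h3 : a1 = 0 := (smul_eq_zero.1 h2).resolve_left H.ε_ne
  have e11 : H.h a1 b1 = 1 := hfr.ef 1 1
  rw [h3, H.zero_left] at e11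
  exact zero_ne_one e11

theorem frame_symm (hε : H.ε = 1) (hfr : HFr P ![a0, a1] ![b0, b1]) :
    HFr P ![b0, b1] ![a0, a1] where
  es := hfr.fs
  fs := hfr.es
  ee := hfr.ff
  ff := hfr.ee
  ef i j := by rw [hfr.fe, hε]

theorem mid_symm {ι : Type*} (e f : ι → V) : mid H f e = mid H e f := by
  unfold mid
  rw [Set.union_comm]

/-- **Scalar action on two totally singular planes.** -/
theorem uGood_two [Finite V] (h2 : (2 : F) = 0) (hε : H.ε = 1) {p k m0 : ℕ} (hp : p.Prime)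
    (hM : ∀ t : ℕ, t ≠ 0 → 2 ^ t ≡ 1 [MOD p] → m0 ≤ 2 ^ t)
    (hlam : ∀ c, P.ok 0 c → c = 0) (hnd : ∀ v : V, v ≠ 0 → ∃ w, H.h v w ≠ 0)
    (hfr : HFr P ![a0, a1] ![b0, b1])
    (hmid : ∃ m ∈ mid H ![a0, a1] ![b0, b1], ∃ m' ∈ mid H ![a0, a1] ![b0, b1], H.h m m' ≠ 0)
    {lam mu : F} (hl : lam ≠ 1) (hm : mu ≠ 1) (hlm : lam ≠ mu) {x : V ≃ₗ[F] V}
    (hxS : x ∈ SG P) (hx : x ^ p ^ k = 1) (x0 : x a0 = lam • a0) (x1 : x a1 = lam • a1)
    (y0 : x b0 = mu • b0) (y1 : x b1 = mu • b1)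
    (hxM : ∀ v ∈ mid H ![a0, a1] ![b0, b1], x v = v) : UGood 1 m0 (⟨x, hxS⟩ : SG P) := by
  have d := hfr.dec hnd
  have hch := charP_two h2
  have : Fact (Nat.Prime 2) := ⟨Nat.prime_two⟩
  have hfin : Finite (V ≃ₗ[F] V) := instFin
  have a : XAct P _ _ _ x := xact_of (e := ![a0, a1]) (f := ![b0, b1]) hxS
    (fun i => by
      fin_cases i
      · show x a0 ∈ _
        rw [x0]
        exact Submodule.smul_mem _ _ (Submodule.subset_span ⟨0, rfl⟩)
      · show x a1 ∈ _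
        rw [x1]
        exact Submodule.smul_mem _ _ (Submodule.subset_span ⟨1, rfl⟩))
    (fun i => by
      fin_cases i
      · show x b0 ∈ _
        rw [y0]
        exact Submodule.smul_mem _ _ (Submodule.subset_span ⟨0, rfl⟩)
      · show x b1 ∈ _
        rw [y1]
        exact Submodule.smul_mem _ _ (Submodule.subset_span ⟨1, rfl⟩)) hxM
  have s1 : ∀ t ∈ Submodule.span F (Set.range ![a0, a1]), x t = lam • t := by
    intro t ht
    obtain ⟨s, s', rfl⟩ := (mem_span_two a0 a1 t).1 ht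
    rw [map_add, map_smul, map_smul, x0, x1]
    module
  have s2 : ∀ t ∈ Submodule.span F (Set.range ![b0, b1]), x t = mu • t := by
    intro t ht
    obtain ⟨s, s', rfl⟩ := (mem_span_two b0 b1 t).1 ht
    rw [map_add, map_smul, map_smul, y0, y1]
    module
  have f1 := freeOn_scal d a s1 s2 hl hlm
  have f2 := freeOn_scal d.symm a.symm s2 s1 hm hlm.symm
  have hfr' := frame_symm hε hfr
  have hmid' : ∃ m ∈ mid H ![b0, b1] ![a0, a1], ∃ m' ∈ mid H ![b0, b1] ![a0, a1],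
      H.h m m' ≠ 0 := by rw [mid_symm]; exact hmid
  have hR1 : IsPGroup 2 (rad P (Submodule.span F (Set.range ![a0, a1]))
    (Submodule.span F (Set.range ![a0, a1]) ⊔ mid H ![a0, a1] ![b0, b1])) := rad_isPGroup d
  have hR2 : IsPGroup 2 (rad P (Submodule.span F (Set.range ![b0, b1]))
    (Submodule.span F (Set.range ![b0, b1]) ⊔ mid H ![a0, a1] ![b0, b1])) := rad_isPGroup d.symm
  have n1 := rad_nonab hfr hnd hmid
  have n2 := rad_nonab hfr' hnd hmid'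
  rw [mid_symm] at n2
  have hx' : (⟨x, hxS⟩ : SG P) ^ p ^ k = 1 := Subtype.ext hx
  have hcard : ∀ {R : Subgroup (V ≃ₗ[F] V)}, R ≤ SG P →
      Nat.card (R.subgroupOf (SG P)) = Nat.card R := fun hR =>
    Nat.card_congr (subgroupOfEquivOfLe hR).toEquiv
  have top_of : ∀ {D : Subgroup (SG P)}, SG P ≤ D.map (SG P).subtype → D = ⊤ := by
    intro D hle
    rw [eq_top_iff]
    intro g _
    obtain ⟨g', hg', he⟩ := hle g.2
    rwa [← Subtype.ext he]
  have hle : ∀ {D : Subgroup (SG P)} {R : Subgroup (V ≃ₗ[F] V)}, R ≤ SG P →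
      R.subgroupOf (SG P) ≤ D → R ≤ D.map (SG P).subtype := by
    intro D R hR h1 g hg
    exact ⟨⟨g, hR hg⟩, h1 hg, rfl⟩
  have c1 : m0 ≤ Nat.card (zrad P (Submodule.span F (Set.range ![a0, a1]))
      (mid H ![a0, a1] ![b0, b1])) := by
    refine (f1.zrad d a).le_card hp Nat.prime_two hx (hR1.to_le inf_le_left) hM ?_
    obtain ⟨g, hg, g', hg', h⟩ := n1
    exact ⟨_, d.comm_zrad g hg g' hg', h⟩
  have c2 : m0 ≤ Nat.card (zrad P (Submodule.span F (Set.range ![b0, b1]))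
      (mid H ![a0, a1] ![b0, b1])) := by
    refine (f2.zrad d.symm a.symm).le_card hp Nat.prime_two hx (hR2.to_le inf_le_left) hM ?_
    obtain ⟨g, hg, g', hg', h⟩ := n2
    exact ⟨_, d.symm.comm_zrad g hg g' hg', h⟩
  have l1 := d.rad_le_SG
  have l2 := d.symm.rad_le_SG
  have l3 : zrad P (Submodule.span F (Set.range ![a0, a1])) (mid H ![a0, a1] ![b0, b1]) ≤ SG P :=
    inf_le_left.trans l1
  have l4 : zrad P (Submodule.span F (Set.range ![b0, b1])) (mid H ![a0, a1] ![b0, b1]) ≤ SG P :=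
    inf_le_left.trans l2
  refine heis_uGood (Q1 := (rad P (Submodule.span F (Set.range ![a0, a1]))
      (Submodule.span F (Set.range ![a0, a1]) ⊔ mid H ![a0, a1] ![b0, b1])).subgroupOf (SG P))
    (Q2 := (rad P (Submodule.span F (Set.range ![b0, b1]))
      (Submodule.span F (Set.range ![b0, b1]) ⊔ mid H ![a0, a1] ![b0, b1])).subgroupOf (SG P))
    (Z1 := (zrad P (Submodule.span F (Set.range ![a0, a1]))
      (mid H ![a0, a1] ![b0, b1])).subgroupOf (SG P))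
    (Z2 := (zrad P (Submodule.span F (Set.range ![b0, b1]))
      (mid H ![a0, a1] ![b0, b1])).subgroupOf (SG P))
    (f1.subgroupOf hxS) (f2.subgroupOf hxS)
    ((f1.subgroupOf hxS).pairM hp Nat.prime_two hx' (isPGroup_subgroupOf hR1) hM)
    ((f2.subgroupOf hxS).pairM hp Nat.prime_two hx' (isPGroup_subgroupOf hR2) hM)
    ?_ ?_ ?_ ?_ ?_ ?_ ?_ ?_ ?_ ?_ ?_ ?_
  · intro z hz; exact hz.1
  · intro z hz; exact hz.1
  · intro z hz g hg; exact Subtype.ext (d.zrad_central z hz g hg)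
  · intro z hz g hg; exact Subtype.ext (d.symm.zrad_central z hz g hg)
  · intro g hg g' hg'; exact d.comm_zrad g hg g' hg'
  · intro g hg g' hg'; exact d.symm.comm_zrad g hg g' hg'
  · intro hcomm
    obtain ⟨g, hg, g', hg', h⟩ := n1
    apply h
    have h3 := congrArg Subtype.val (hcomm ⟨g, l1 hg⟩ hg ⟨g', l1 hg'⟩ hg')
    have h4 : g * g' = g' * g := h3
    rw [h4]; group
  · intro hcomm
    obtain ⟨g, hg, g', hg', h⟩ := n2
    apply h
    have h3 := congrArg Subtype.val (hcomm ⟨g, l2 hg⟩ hg ⟨g', l2 hg'⟩ hg')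
    have h4 : g * g' = g' * g := h3
    rw [h4]; group
  · rw [hcard l3]; exact c1
  · rw [hcard l4]; exact c2
  · intro D hD z hz hz1 hzD
    apply top_of
    exact over_heis hfr hlam hnd hmid (hle l1 hD) hz (fun h => hz1 (Subtype.ext h))
      ⟨z, hzD, rfl⟩
  · intro D hD z hz hz1 hzD
    apply top_of
    refine over_heis hfr' hlam hnd hmid' ?_ ?_ (fun h => hz1 (Subtype.ext h)) ⟨z, hzD, rfl⟩
    · rw [mid_symm]; exact hle l2 hD
    · rw [mid_symm]; exact hz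

end Two

end Cfsg.Agent.H398.FPR
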