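import Cfsg.Agent.H398.FPR.DispCl
import Cfsg.Agent.H435.Fpr.AltTwo
import Cfsg.Agent.H444.FprAlt
import Cfsg.Agent.H452.FprBad
import Cfsg.Agent.H409.FprRed
import Cfsg.Agent.H409.FprCycL4
import Cfsg.Prelude.Def_Classification2

/-!
# S3569 and S3578: the final assembly
-/

set_option autoImplicit false
open Subgroup MulAction

namespace Cfsg.Agent.H398.FPR

open Cfsg
open Cfsg.Agent.H409

universe u v

theorem cycPsl : CycPsl := fun _ _ _ _ _ _ h1 h2 h3 h4 h5 h6 =>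
  Cyc.cyc_psl h3 (by omega) h2 h4 h5 h6

theorem FprRow.weaken {S : Type*} [Group S] [Finite S] {p : ℕ} (hp : p.Prime)
    (h : FprRow (p + 1) 1 p S) : FprRow (2 * p - 1) (p - 1) p S := by
  refine h.mono one_pos ?_
  have h2 := hp.two_le
  obtain ⟨q, rfl⟩ := Nat.exists_eq_add_of_le' h2
  have e1 : 2 * (q + 2) - 1 = 2 * q + 3 := by omega
  have e2 : q + 2 - 1 = q + 1 := by omega
  rw [e1, e2]
  nlinarith

/-- S3569 for the simple groups. -/
theorem rows_all (hcfsg : ∀ (S : Type u) [Group S] [Finite S] [IsSimpleGroup S],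
      Cfsg.IsKnownSimple' S)
    {p : ℕ} (hp : p.Prime)
    (hexc : ∀ (S : Type u) [Group S] [Finite S] [IsSimpleGroup S], Cfsg.IsExceptionalLieType S →
      p ∣ Nat.card S → FprRow (2 * p - 1) (p - 1) p S)
    (hspor : ∀ (S : Type u) [Group S] [Finite S] [IsSimpleGroup S], Cfsg.IsSporadicGroup S →
      p ∣ Nat.card S → FprRow (2 * p - 1) (p - 1) p S)
    (S : Type u) [Group S] [Finite S] (hS : IsSimpleGroup S) (hna : ∃ x y : S, x * y ≠ y * x)
    (hd : p ∣ Nat.card S) : FprRow (2 * p - 1) (p - 1) p S := by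
  have hpf : Fact p.Prime := ⟨hp⟩
  by_cases hchar : IsLieTypeChar p S
  · exact FprRow.weaken hp (FprRow.of_lie hp hchar)
  by_cases hcyc : p = 2 ∨ ∃ P : Sylow p S, ¬ IsCyclic P
  swap
  · push Not at hcyc
    obtain ⟨P⟩ : Nonempty (Sylow p S) := inferInstance
    exact Cfsg.Agent.H444.Fpr.row_of_cyclic (Cfsg.Agent.H444.Fpr.pGen_of_simple hd) P (hcyc.2 P)
  rcases hcfsg S with h | h | h | h | h | h | h | h | h | h
  · exfalso
    obtain ⟨x, y, hxy⟩ := hna
    have : Fact (Nat.card S).Prime := ⟨h⟩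
    have hc : IsCyclic S := isCyclic_of_prime_card rfl
    let _ := IsCyclic.commGroup (α := S)
    exact hxy (mul_comm x y)
  · obtain ⟨n, hn, ⟨e⟩⟩ := h
    refine FprRow.of_mulEquiv hp e.symm ?_
    by_cases hp2 : p = 2
    · subst hp2
      exact Cfsg.Agent.H435.Fpr.fprRow_alternating_two hn
    · exact Cfsg.Agent.H444.Fpr.row_alt hp2 hn (by rw [← Nat.card_congr e.toEquiv]; exact hd)
  · exact Cfsg.Agent.H110.Fpr.row_classical hp (Or.inl h) hchar hcyc
  · exact Cfsg.Agent.H110.Fpr.row_classical hp (Or.inr (Or.inl h)) hchar hcyc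
  · exact Cfsg.Agent.H110.Fpr.row_classical hp (Or.inr (Or.inr (Or.inl h))) hchar hcyc
  · exact Cfsg.Agent.H110.Fpr.row_classical hp (Or.inr (Or.inr (Or.inr (Or.inl h)))) hchar hcyc
  · exact Cfsg.Agent.H110.Fpr.row_classical hp (Or.inr (Or.inr (Or.inr (Or.inr (Or.inl h)))))
      hchar hcyc
  · exact Cfsg.Agent.H110.Fpr.row_classical hp (Or.inr (Or.inr (Or.inr (Or.inr (Or.inr h)))))
      hchar hcyc
  · exact hexc S h hd
  · exact hspor S h hd

/-- S3578 for the simple groups, `p` odd. -/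
theorem rows_sharp (hcfsg : ∀ (S : Type u) [Group S] [Finite S] [IsSimpleGroup S],
      Cfsg.IsKnownSimple' S)
    {p : ℕ} (hp : p.Prime) (hp2 : p ≠ 2)
    (hexc : ∀ (S : Type u) [Group S] [Finite S] [IsSimpleGroup S], Cfsg.IsExceptionalLieType S →
      p ∣ Nat.card S → FprRow (p + 1) 1 p S)
    (hspor : ∀ (S : Type u) [Group S] [Finite S] [IsSimpleGroup S], Cfsg.IsSporadicGroup S →
      p ∣ Nat.card S → FprRow (p + 1) 1 p S)
    (S : Type u) [Group S] [Finite S] (hS : IsSimpleGroup S) (hna : ∃ x y : S, x * y ≠ y * x)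
    (hd : p ∣ Nat.card S) (hbad : ¬ Bad p S) : FprRow (p + 1) 1 p S := by
  have hpf : Fact p.Prime := ⟨hp⟩
  by_cases hchar : IsLieTypeChar p S
  · exact FprRow.of_lie hp hchar
  rcases hcfsg S with h | h | h | h | h | h | h | h | h | h
  · exfalso
    obtain ⟨x, y, hxy⟩ := hna
    have : Fact (Nat.card S).Prime := ⟨h⟩
    have hc : IsCyclic S := isCyclic_of_prime_card rfl
    let _ := IsCyclic.commGroup (α := S)
    exact hxy (mul_comm x y)
  · obtain ⟨n, hn, ⟨e⟩⟩ := h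
    exact FprRow.of_mulEquiv hp e.symm (alt_sharp hn hp hp2
      (by rw [← Nat.card_congr e.toEquiv]; exact hd) (fun h => hbad (h.congr e.symm)))
  · exact classical_sharp cycPsl hp hp2 (Or.inl h) hchar hd hbad
  · exact classical_sharp cycPsl hp hp2 (Or.inr (Or.inl h)) hchar hd hbad
  · exact classical_sharp cycPsl hp hp2 (Or.inr (Or.inr (Or.inl h))) hchar hd hbad
  · exact classical_sharp cycPsl hp hp2 (Or.inr (Or.inr (Or.inr (Or.inl h)))) hchar hd hbad
  · exact classical_sharp cycPsl hp hp2 (Or.inr (Or.inr (Or.inr (Or.inr (Or.inl h))))) hchar hd hbad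
  · exact classical_sharp cycPsl hp hp2 (Or.inr (Or.inr (Or.inr (Or.inr (Or.inr h))))) hchar hd hbad
  · exact hexc S h hd
  · exact hspor S h hd

/-- **S3578, the row form.** -/
theorem main_sharp_row (hcfsg : ∀ (S : Type u) [Group S] [Finite S] [IsSimpleGroup S],
      Cfsg.IsKnownSimple' S)
    {p : ℕ} [hp : Fact p.Prime]
    (hexc2 : p = 2 → ∀ (S : Type u) [Group S] [Finite S] [IsSimpleGroup S],
      Cfsg.IsExceptionalLieType S → 2 ∣ Nat.card S → FprRow (2 * 2 - 1) (2 - 1) 2 S)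
    (hspor2 : p = 2 → ∀ (S : Type u) [Group S] [Finite S] [IsSimpleGroup S],
      Cfsg.IsSporadicGroup S → 2 ∣ Nat.card S → FprRow (2 * 2 - 1) (2 - 1) 2 S)
    (hexc : p ≠ 2 → ∀ (S : Type u) [Group S] [Finite S] [IsSimpleGroup S],
      Cfsg.IsExceptionalLieType S → p ∣ Nat.card S → FprRow (p + 1) 1 p S)
    (hspor : p ≠ 2 → ∀ (S : Type u) [Group S] [Finite S] [IsSimpleGroup S],
      Cfsg.IsSporadicGroup S → p ∣ Nat.card S → FprRow (p + 1) 1 p S)
    {G : Type u} [Group G] [Finite G] (hgen : PG p G)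
    (hA : ∀ (N : Subgroup G) [N.Normal] (m : ℕ), p + 1 < m → m < p ^ 2 - p →
      ¬ Nonempty (G ⧸ N ≃* ↥(alternatingGroup (Fin m))))
    (hS : ∀ (N : Subgroup G) [N.Normal] (k : ℕ), p + 1 = 2 ^ k →
      ¬ Nonempty (G ⧸ N ≃* Matrix.SpecialLinearGroup (Fin 2) (GaloisField 2 k))) :
    FprRow (p + 1) 1 p G := by
  by_cases hp2 : p = 2
  · subst hp2
    exact row_of_simple (p := 2) (a := 3) (b := 1) (by norm_num)
      (rows_all hcfsg Nat.prime_two (hexc2 rfl) (hspor2 rfl)) _ G rfl hgen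
  · refine Cfsg.Agent.H452.FprBad.row_of_simple_bad hp2 (fun S _ => Bad p S)
      (fun S S' _ _ e h => h.congr e) ?_ ?_ _ G rfl hgen ?_
    · intro S _ _ h1 h2 h3 φ hφ
      exact h3.hout hp.out hp2 h1 h2 φ hφ
    · intro S _ _ h1 h2 h3 h4
      exact rows_sharp hcfsg hp.out hp2 (hexc hp2) (hspor hp2) S h1 h2 h3 h4
    · rintro N _ (⟨m, h1, h2, h3⟩ | ⟨k, h1, h2⟩)
      · exact hA N m h1 h2 h3
      · exact hS N k h1 h2

/-- **S3578** from the exceptional and sporadic rows. -/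
theorem main_sharp (hcfsg : ∀ (S : Type u) [Group S] [Finite S] [IsSimpleGroup S],
      Cfsg.IsKnownSimple' S)
    {p : ℕ} [hp : Fact p.Prime]
    (hexc2 : p = 2 → ∀ (S : Type u) [Group S] [Finite S] [IsSimpleGroup S],
      Cfsg.IsExceptionalLieType S → 2 ∣ Nat.card S → FprRow (2 * 2 - 1) (2 - 1) 2 S)
    (hspor2 : p = 2 → ∀ (S : Type u) [Group S] [Finite S] [IsSimpleGroup S],
      Cfsg.IsSporadicGroup S → 2 ∣ Nat.card S → FprRow (2 * 2 - 1) (2 - 1) 2 S)
    (hexc : p ≠ 2 → ∀ (S : Type u) [Group S] [Finite S] [IsSimpleGroup S],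
      Cfsg.IsExceptionalLieType S → p ∣ Nat.card S → FprRow (p + 1) 1 p S)
    (hspor : p ≠ 2 → ∀ (S : Type u) [Group S] [Finite S] [IsSimpleGroup S],
      Cfsg.IsSporadicGroup S → p ∣ Nat.card S → FprRow (p + 1) 1 p S)
    {G : Type u} {Ω : Type v} [Group G] [Finite G] [MulAction G Ω] [FaithfulSMul G Ω] [Finite Ω]
    (htrans : MulAction.IsPretransitive G Ω) (hpG : p ∣ Nat.card G)
    (hgen : Subgroup.closure {g : G | ∃ k : ℕ, orderOf g = p ^ k} = ⊤)
    (hA : ∀ (N : Subgroup G) [N.Normal] (m : ℕ), p + 1 < m → m < p ^ 2 - p →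
      ¬ Nonempty (G ⧸ N ≃* ↥(alternatingGroup (Fin m))))
    (hS : ∀ (N : Subgroup G) [N.Normal] (k : ℕ), p + 1 = 2 ^ k →
      ¬ Nonempty (G ⧸ N ≃* Matrix.SpecialLinearGroup (Fin 2) (GaloisField 2 k))) :
    ∃ x : G, (∃ k : ℕ, orderOf x = p ^ k) ∧
      (p + 1) * Nat.card (MulAction.fixedBy Ω x) ≤ Nat.card Ω := by
  have h := main_sharp_row hcfsg hexc2 hspor2 hexc hspor hgen hA hS
  have : Nontrivial Ω := by
    by_contra hcon
    rw [not_nontrivial_iff_subsingleton] at hcon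
    have hG1 : Subsingleton G := by
      constructor
      intro g g'
      apply FaithfulSMul.eq_of_smul_eq_smul (α := Ω)
      intro ω
      exact Subsingleton.elim _ _
    have h1 : Nat.card G = 1 := Nat.card_of_subsingleton 1
    rw [h1, Nat.dvd_one] at hpG
    exact hp.out.ne_one hpG
  obtain ⟨x, hx, hle⟩ := h.action (Ω := Ω)
  exact ⟨x, hx, by rwa [one_mul] at hle⟩

end Cfsg.Agent.H398.FPR
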