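import Cfsg.Agent.H398.FPR.FamTwo
import Cfsg.Agent.H398.FPR.BadGrp
import Cfsg.Agent.H110.Fpr.Cls
import Cfsg.Agent.H110.Fpr.SharpL
import Cfsg.Agent.H110.Fpr.SharpSp
import Cfsg.Agent.H110.Fpr.SharpU
import Cfsg.Agent.H110.Fpr.SharpO
import Cfsg.Agent.H409.FprCycCl
import Cfsg.Agent.H409.FprCycL3b
import Cfsg.Agent.H435.Fpr.LinRow
import Cfsg.Agent.H435.Fpr.AltOdd
import Cfsg.Agent.H452.FprPsl2
import Cfsg.Agent.H452.FprPsu3
import Cfsg.Agent.H452.FprPsuN
import Cfsg.Agent.H452.FprTTRow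
import Cfsg.Agent.H452.FprSpAll
import Cfsg.Agent.H409.FprOwnAll
import Cfsg.Agent.S0822

/-!
# S3578: all classical groups, cross characteristic
-/

set_option autoImplicit false
open Subgroup MulAction

namespace Cfsg.Agent.H398.FPR

open Cfsg
open Cfsg.Agent.H409
open Cfsg.Agent.H110.Fpr (sharp_PSL sharp_PSp sharp_PSU sharp_POmegaOdd sharp_POmegaPlus
  sharp_POmegaMinus)

universe u

/-- The cyclic case of `PSL_n(q)`, `n ≥ 4`. -/
def CycPsl : Prop :=
  ∀ (F : Type) [Field F] [Fintype F] (n p : ℕ) [Fact p.Prime], 4 ≤ n →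
    ¬ (n = 4 ∧ Fintype.card F = 2) → p ≠ 2 → (p : F) ≠ 0 →
    (∀ k, p ∣ Fintype.card F ^ k - 1 → n ∣ k) →
    p ∣ Nat.card (Matrix.ProjectiveSpecialLinearGroup (Fin n) F) →
    FprRow (p + 1) 1 p (Matrix.ProjectiveSpecialLinearGroup (Fin n) F)

theorem mers_or {p r : ℕ} (hp : p.Prime) (hp2 : p ≠ 2) (hr : r.Prime) :
    (r = 2 ∧ ∃ k, p + 1 = 2 ^ k) ∨
      ∀ t : ℕ, t ≠ 0 → r ^ t ≡ 1 [MOD p] → 2 * p + 1 ≤ r ^ t := by
  by_contra hcon
  push Not at hcon
  obtain ⟨h1, t, ht, hmod, hlt⟩ := hcon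
  have h2 : 1 < r ^ t := Nat.one_lt_pow ht hr.one_lt
  have h3 : p ∣ r ^ t - 1 := (Nat.modEq_iff_dvd' h2.le).1 hmod.symm
  obtain ⟨j, hj⟩ := h3
  have hp0 := hp.pos
  have hj1 : j = 1 := by
    have hj0 : j ≠ 0 := by
      rintro rfl
      rw [mul_zero] at hj
      omega
    have hj2 : j < 2 := by
      by_contra hcon
      have : p * 2 ≤ p * j := Nat.mul_le_mul_left p (by omega)
      omega
    omega
  rw [hj1, mul_one] at hj
  have h4 : p + 1 = r ^ t := by omega
  have h5 : r = 2 := by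
    have h6 : 2 ∣ r ^ t := by
      obtain ⟨i, hi⟩ := hp.odd_of_ne_two hp2
      omega
    exact ((Nat.prime_dvd_prime_iff_eq Nat.prime_two hr).1 (Nat.prime_two.dvd_of_dvd_pow h6)).symm
  subst h5
  exact h1 rfl t h4

theorem mers_prime {p k : ℕ} (hp : p.Prime) (h : p + 1 = 2 ^ k) : k.Prime := by
  have h1 : (2 ^ k - 1).Prime := by
    have : 2 ^ k - 1 = p := by omega
    rw [this]
    exact hp
  have hk := (two_pow_bounds hp h).1
  exact (Nat.prime_of_pow_sub_one_prime (by omega) h1).2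

theorem dvd_card_SL {F : Type*} [Field F] [Finite F] {n p : ℕ} (hp : p.Prime) (hn : 1 ≤ n)
    (h1 : p ∣ Nat.card F ^ n - 1) (h2 : ¬ p ∣ Nat.card F - 1) :
    p ∣ Nat.card (Matrix.SpecialLinearGroup (Fin n) F) := by
  classical
  have := Fact.mk hp
  have := Fintype.ofFinite F
  have hGL : p ∣ Nat.card (GL (Fin n) F) := by
    rw [Matrix.card_GL_field]
    refine Dvd.dvd.trans ?_ (Finset.dvd_prod_of_mem _ (Finset.mem_univ (⟨0, by omega⟩ : Fin n)))
    rw [pow_zero, ← Nat.card_eq_fintype_card]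
    exact h1
  obtain ⟨g, hg⟩ := exists_prime_orderOf_dvd_card' p hGL
  have hdet : Matrix.GeneralLinearGroup.det g = 1 := by
    have h3 : (Matrix.GeneralLinearGroup.det g) ^ p = 1 := by
      rw [← map_pow, ← hg, pow_orderOf_eq_one, map_one]
    have h4 : orderOf (Matrix.GeneralLinearGroup.det g) ∣ p := orderOf_dvd_of_pow_eq_one h3
    rcases (Nat.dvd_prime hp).1 h4 with h5 | h5
    · exact orderOf_eq_one_iff.1 h5
    · exfalso
      apply h2
      have h6 : Nat.card Fˣ = Nat.card F - 1 := by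
        rw [Nat.card_eq_fintype_card, Nat.card_eq_fintype_card, Fintype.card_units]
      rw [← h6, ← h5]
      exact orderOf_dvd_natCard _
  have hdet' : Matrix.det (g : Matrix (Fin n) (Fin n) F) = 1 := by
    have := congrArg Units.val hdet
    simpa using this
  obtain ⟨s, hs⟩ : ∃ s : Matrix.SpecialLinearGroup (Fin n) F,
      (s : Matrix (Fin n) (Fin n) F) = g := ⟨⟨g, hdet'⟩, rfl⟩
  have hsp : s ^ p = 1 := by
    apply Subtype.ext
    rw [Matrix.SpecialLinearGroup.coe_pow, hs]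
    have h7 : g ^ p = 1 := by rw [← hg]; exact pow_orderOf_eq_one g
    have := congrArg Units.val h7
    simpa using this
  have hs1 : s ≠ 1 := by
    rintro rfl
    have h8 : g = 1 := by
      apply Units.ext
      rw [← hs]
      rfl
    rw [h8, orderOf_one] at hg
    exact hp.one_lt.ne hg
  rw [← orderOf_eq_prime hsp hs1]
  exact orderOf_dvd_natCard s

theorem dvd_card_PSL {F : Type*} [Field F] [Finite F] {n p : ℕ} (hp : p.Prime) (hn : 1 ≤ n)
    (h1 : p ∣ Nat.card F ^ n - 1) (h2 : ¬ p ∣ Nat.card F - 1) :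
    p ∣ Nat.card (Matrix.ProjectiveSpecialLinearGroup (Fin n) F) := by
  classical
  have := Fintype.ofFinite F
  have h3 := dvd_card_SL hp hn h1 h2
  rw [← (center (Matrix.SpecialLinearGroup (Fin n) F)).index_mul_card] at h3
  rcases hp.dvd_mul.1 h3 with h4 | h4
  · exact h4
  · exfalso
    apply h2
    have h5 : Nat.card (center (Matrix.SpecialLinearGroup (Fin n) F)) =
        Nat.card (rootsOfUnity (max (Fintype.card (Fin n)) 1) F) :=
      Nat.card_congr Matrix.SpecialLinearGroup.center_equiv_rootsOfUnity.toEquiv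
    rw [h5] at h4
    have h6 : Nat.card Fˣ = Nat.card F - 1 := by
      rw [Nat.card_eq_fintype_card, Nat.card_eq_fintype_card, Fintype.card_units]
    rw [← h6]
    exact h4.trans (Subgroup.card_subgroup_dvd_card _)

section fam

variable {F : Type} [Field F] [Fintype F]

/-- `PSL_n(q)`, `n ≥ 3` -/
theorem psl_sharp (hC : CycPsl) {n p : ℕ} (hp : p.Prime) (hp2 : p ≠ 2) (hn : 3 ≤ n)
    (hpF : (p : F) ≠ 0) (hdvd : p ∣ Nat.card (Matrix.ProjectiveSpecialLinearGroup (Fin n) F))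
    (h42 : (∀ k, p ∣ Fintype.card F ^ k - 1 → n ∣ k) → ¬ (n = 4 ∧ Fintype.card F = 2)) :
    FprRow (p + 1) 1 p (Matrix.ProjectiveSpecialLinearGroup (Fin n) F) := by
  have := Fact.mk hp
  obtain ⟨r, hr⟩ := CharP.exists F
  have hrp : r.Prime := CharP.char_is_prime F r
  have hrf : Fact r.Prime := ⟨hrp⟩
  have key : FprRow (p + 1) 1 p (Matrix.ProjectiveSpecialLinearGroup (Fin n) F) ∨
      ∀ k, p ∣ Nat.card F ^ k - 1 → n ∣ k := by
    rcases mers_or hp hp2 hrp with ⟨rfl, k, hk⟩ | hM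
    · exact Cfsg.Agent.H435.Fpr.mersenne_PSL hn hp hk hdvd
    · exact sharp_PSL hn hp hp2 hpF hM hdvd
  rcases key with h | h
  · exact h
  · rw [Nat.card_eq_fintype_card] at h
    rcases Nat.lt_or_ge n 4 with h4 | h4
    · obtain rfl : n = 3 := by omega
      exact Cyc.row_psl3 hp2 hpF h hdvd
    · exact hC F n p h4 (h42 h) hp2 hpF h hdvd

/-- the row for `PSL_k(q)`, `p = 2 ^ k - 1` -/
theorem psl_mers (hC : CycPsl) {k p : ℕ} (hp : p.Prime) (hk : k.Prime) (hk3 : 3 ≤ k)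
    (hpk : p + 1 = 2 ^ k) (h2 : (2 : F) = 0) (hq : ¬ p ∣ Nat.card F - 1) :
    FprRow (p + 1) 1 p (Matrix.ProjectiveSpecialLinearGroup (Fin k) F) := by
  have := Fact.mk hp
  have hp2 := mers_ne_two hk hpk
  have hodd := hp.odd_of_ne_two hp2
  have hpF := charF_ne h2 hodd
  have hord := orderOf_card h2 hp hk hpk hq
  have h1 : p ∣ Nat.card F ^ k - 1 := by
    rw [Cfsg.Agent.H110.Fpr.dvd_pow_sub_one_iff Nat.card_pos, ← hord]
    exact pow_orderOf_eq_one _
  refine psl_sharp hC hp hp2 hk3 hpF (dvd_card_PSL hp hk.pos h1 hq) (fun _ h => ?_)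
  have h4 := h.1
  subst h4
  revert hk
  decide

theorem psp_sharp (hC : CycPsl) {m p : ℕ} (hp : p.Prime) (hp2 : p ≠ 2) (hm : 2 ≤ m)
    (hm2 : m = 2 → 3 ≤ Fintype.card F) (hpF : (p : F) ≠ 0) (hdvd : p ∣ Nat.card (PSp m F)) :
    FprRow (p + 1) 1 p (PSp m F) := by
  have := Fact.mk hp
  obtain ⟨r, hr⟩ := CharP.exists F
  have hrp : r.Prime := CharP.char_is_prime F r
  have hrf : Fact r.Prime := ⟨hrp⟩
  rcases mers_or hp hp2 hrp with ⟨rfl, k, hk⟩ | hM
  · have h2 : (2 : F) = 0 := by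
      have := CharP.cast_eq_zero F 2
      exact_mod_cast this
    have hkp := mers_prime hp hk
    rcases Nat.lt_or_ge k 3 with hk3 | hk3
    · obtain rfl : k = 2 := by have := hkp.two_le; omega
      obtain rfl : p = 3 := by omega
      refine Cfsg.Agent.H452.FprSpAll.row_PSp_three hm ?_ ?_
      · rw [Nat.card_eq_fintype_card]
        exact even_iff_two_dvd.2 ((CharP.cast_eq_zero_iff F 2 _).1 (FiniteField.cast_card_eq_zero F))
      · rintro ⟨h3, h4⟩
        have := hm2 h3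
        rw [Nat.card_eq_fintype_card] at h4
        omega
    · exact psp_mers' hm h2 hp hkp hk3 hk hdvd (fun hq => psl_mers hC hp hkp hk3 hk h2 hq)
  · rcases sharp_PSp hm (by rw [Nat.card_eq_fintype_card]; exact hm2) hp hp2 hpF hM hdvd with h | h
    · exact h
    · rw [Nat.card_eq_fintype_card] at h
      exact Cyc.cyc_psp hp2 hpF hm hm2 h hdvd

theorem psu_sharp (hC : CycPsl) {n q p : ℕ} (hp : p.Prime) (hp2 : p ≠ 2)
    (hF : Fintype.card F = q ^ 2) (hn : 3 ≤ n) (hn2 : ¬ (n = 3 ∧ q = 2))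
    (h423 : ¬ (p = 3 ∧ n = 4 ∧ q = 2)) (hpF : (p : F) ≠ 0)
    (hdvd : p ∣ Nat.card (PSU n F q)) : FprRow (p + 1) 1 p (PSU n F q) := by
  have := Fact.mk hp
  have hq2 : 2 ≤ q := by
    have h1 := Fintype.one_lt_card (α := F)
    rw [hF] at h1
    by_contra hlt
    push Not at hlt
    interval_cases q <;> omega
  have hpq : ¬ p ∣ q := by
    intro h
    apply Cfsg.Agent.H110.Fpr.not_dvd_card hp hpF
    rw [Nat.card_eq_fintype_card, hF]
    exact dvd_pow h two_ne_zero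
  rcases Nat.lt_or_ge n 4 with h4 | h4
  · obtain rfl : n = 3 := by omega
    have hq3 : 3 ≤ q := by
      rcases Nat.lt_or_ge q 3 with h6 | h6
      · exact absurd ⟨rfl, by omega⟩ hn2
      · exact h6
    exact Cfsg.Agent.H452.FprPsu3.row_psu3 hF hq3 hp2 hpq hdvd
  obtain ⟨r, hr⟩ := CharP.exists F
  have hrp : r.Prime := CharP.char_is_prime F r
  have hrf : Fact r.Prime := ⟨hrp⟩
  -- the cyclic case
  have hcyc : (∃ e, Odd e ∧ (n = e ∨ n = e + 1) ∧ ∀ k, p ∣ Nat.card F ^ k - 1 → e ∣ k) →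
      FprRow (p + 1) 1 p (PSU n F q) := by
    rintro ⟨e, he, hne | hne, h⟩
    · rw [Nat.card_eq_fintype_card] at h
      subst hne
      refine Cyc.cyc_psu_odd hp2 hpF hF ?_ he h hdvd
      obtain ⟨i, hi⟩ := he
      omega
    · rw [Nat.card_eq_fintype_card] at h
      have hev : Even n := by rw [hne]; exact he.add_one
      exact Cyc.cyc_psu_even hp2 hpF hF h4 hev (by
        intro k hk
        have h1 : n - 1 = e := by omega
        rw [h1]
        exact h k hk) hdvd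
  rcases mers_or hp hp2 hrp with ⟨rfl, k, hk⟩ | hM
  · have h2 : (2 : F) = 0 := by
      have := CharP.cast_eq_zero F 2
      exact_mod_cast this
    have hkp := mers_prime hp hk
    rcases Nat.lt_or_ge k 3 with hk3 | hk3
    · obtain rfl : k = 2 := by have := hkp.two_le; omega
      obtain rfl : p = 3 := by omega
      by_cases h3 : 3 ∣ q + 1
      · by_cases h42 : n = 4 ∧ q = 2
        · exact absurd ⟨rfl, h42⟩ h423
        · exact Cfsg.Agent.H452.FprPsuN.row_psu_three hF h3 h4 h42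
      · refine psu_eone hF hn h2 hp hp2 ?_
        omega
    · exact psu_mers' hF hn h2 hp hkp hk3 hk hdvd (fun hq => psl_mers hC hp hkp hk3 hk h2 hq)
  · rcases sharp_PSU hF h4 hp hp2 hpF hM hdvd with h | h
    · exact h
    · exact hcyc h

theorem oodd_sharp {m p : ℕ} (hp : p.Prime) (hp2 : p ≠ 2) (hm : 3 ≤ m)
    (hodd : Odd (Fintype.card F)) (hpF : (p : F) ≠ 0)
    (hdvd : p ∣ Nat.card (Cfsg.POmega F (Cfsg.quadFormOdd m F))) :
    FprRow (p + 1) 1 p (Cfsg.POmega F (Cfsg.quadFormOdd m F)) := by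
  have := Fact.mk hp
  obtain ⟨r, hr⟩ := CharP.exists F
  have hrp : r.Prime := CharP.char_is_prime F r
  have hrf : Fact r.Prime := ⟨hrp⟩
  rcases mers_or hp hp2 hrp with ⟨rfl, k, hk⟩ | hM
  · exfalso
    have h1 : 2 ∣ Fintype.card F :=
      (CharP.cast_eq_zero_iff F 2 _).1 (FiniteField.cast_card_eq_zero F)
    rw [Nat.odd_iff] at hodd
    omega
  · rcases sharp_POmegaOdd hm hodd hp hp2 hpF hM hdvd with h | h
    · exact h
    · rw [Nat.card_eq_fintype_card] at h
      exact Cyc.cyc_odd hp2 hpF hm hodd h hdvd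

theorem oplus_sharp (hC : CycPsl) {m p : ℕ} (hp : p.Prime) (hp2 : p ≠ 2) (hm : 4 ≤ m)
    (hpF : (p : F) ≠ 0) (hdvd : p ∣ Nat.card (Cfsg.POmega F (Cfsg.quadFormPlus m F))) :
    FprRow (p + 1) 1 p (Cfsg.POmega F (Cfsg.quadFormPlus m F)) := by
  have := Fact.mk hp
  obtain ⟨r, hr⟩ := CharP.exists F
  have hrp : r.Prime := CharP.char_is_prime F r
  have hrf : Fact r.Prime := ⟨hrp⟩
  rcases mers_or hp hp2 hrp with ⟨rfl, k, hk⟩ | hM
  · have h2 : (2 : F) = 0 := by
      have := CharP.cast_eq_zero F 2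
      exact_mod_cast this
    have hkp := mers_prime hp hk
    rcases Nat.lt_or_ge k 3 with hk3 | hk3
    · obtain rfl : k = 2 := by have := hkp.two_le; omega
      obtain rfl : p = 3 := by omega
      refine Cfsg.Agent.H452.FprTTRow.row_POmegaPlus ?_ (Or.inl hm)
      rw [Nat.card_eq_fintype_card]
      exact even_iff_two_dvd.2 ((CharP.cast_eq_zero_iff F 2 _).1 (FiniteField.cast_card_eq_zero F))
    · exact oplus_mers' hm h2 hp hkp hk3 hk hdvd (fun hq => psl_mers hC hp hkp hk3 hk h2 hq)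
  · rcases sharp_POmegaPlus hm hp hp2 hpF hM hdvd with h | h
    · exact h
    · rw [Nat.card_eq_fintype_card] at h
      exact Cyc.cyc_plus hp2 hpF hm h hdvd

theorem ominus_sharp (hC : CycPsl) {m p : ℕ} (hp : p.Prime) (hp2 : p ≠ 2) (hm : 4 ≤ m) {a b : F}
    (hab : ∀ z₁ z₂ : F, z₁ ^ 2 + a * z₁ * z₂ + b * z₂ ^ 2 = 0 → z₁ = 0 ∧ z₂ = 0)
    (hpF : (p : F) ≠ 0)
    (hdvd : p ∣ Nat.card (Cfsg.POmega F (Cfsg.quadFormMinus (m - 1) F a b))) :
    FprRow (p + 1) 1 p (Cfsg.POmega F (Cfsg.quadFormMinus (m - 1) F a b)) := by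
  have := Fact.mk hp
  obtain ⟨r, hr⟩ := CharP.exists F
  have hrp : r.Prime := CharP.char_is_prime F r
  have hrf : Fact r.Prime := ⟨hrp⟩
  rcases mers_or hp hp2 hrp with ⟨rfl, k, hk⟩ | hM
  · have h2 : (2 : F) = 0 := by
      have := CharP.cast_eq_zero F 2
      exact_mod_cast this
    have hkp := mers_prime hp hk
    rcases Nat.lt_or_ge k 3 with hk3 | hk3
    · obtain rfl : k = 2 := by have := hkp.two_le; omega
      obtain rfl : p = 3 := by omega
      refine Cfsg.Agent.H452.FprTTRow.row_POmegaMinus ?_ (Or.inl hm) hab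
      rw [Nat.card_eq_fintype_card]
      exact even_iff_two_dvd.2 ((CharP.cast_eq_zero_iff F 2 _).1 (FiniteField.cast_card_eq_zero F))
    · exact ominus_mers' hm hab h2 hp hkp hk3 hk hdvd (fun hq => psl_mers hC hp hkp hk3 hk h2 hq)
  · rcases sharp_POmegaMinus hm hab hp hp2 hpF hM hdvd with h | h
    · exact h
    · rw [Nat.card_eq_fintype_card] at h
      exact Cyc.cyc_minus hp2 hpF hm hab h hdvd

/-- a row for an alternating group -/
theorem alt_sharp {m p : ℕ} (hm : 5 ≤ m) (hp : p.Prime) (hp2 : p ≠ 2)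
    (hdvd : p ∣ Nat.card (alternatingGroup (Fin m)))
    (hbad : ¬ Bad p (alternatingGroup (Fin m))) :
    FprRow (p + 1) 1 p (alternatingGroup (Fin m)) := by
  have := Fact.mk hp
  refine Cfsg.Agent.H435.Fpr.fprRow_alternating_odd hm hp2 ?_ (fun h => hbad
    (Or.inl ⟨m, h.1, h.2, ⟨MulEquiv.refl _⟩⟩))
  have : Nontrivial (Fin m) := Fin.nontrivial_iff_two_le.2 (by omega)
  have h2 : Nat.card (Equiv.Perm (Fin m)) = 2 * Nat.card (alternatingGroup (Fin m)) := by
    rw [Nat.card_eq_fintype_card, Nat.card_eq_fintype_card, two_mul_card_alternatingGroup]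
  have h3 : p ∣ Nat.card (Equiv.Perm (Fin m)) := by
    rw [h2]
    exact hdvd.mul_left 2
  rw [Nat.card_perm, Nat.card_fin] at h3
  exact (hp.dvd_factorial).1 h3

/-- `PSL_2(q)` -/
theorem psl2_sharp {p : ℕ} (hp : p.Prime) (hp2 : p ≠ 2) (h4 : 4 ≤ Fintype.card F)
    (hpF : (p : F) ≠ 0) (hdvd : p ∣ Nat.card (Matrix.ProjectiveSpecialLinearGroup (Fin 2) F))
    (hbad : ¬ Bad p (Matrix.ProjectiveSpecialLinearGroup (Fin 2) F)) :
    FprRow (p + 1) 1 p (Matrix.ProjectiveSpecialLinearGroup (Fin 2) F) := by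
  have := Fact.mk hp
  have halt : ∀ m, 5 ≤ m → Nonempty (Matrix.ProjectiveSpecialLinearGroup (Fin 2) F ≃*
      alternatingGroup (Fin m)) →
      FprRow (p + 1) 1 p (Matrix.ProjectiveSpecialLinearGroup (Fin 2) F) := by
    rintro m hm ⟨e⟩
    exact FprRow.of_mulEquiv hp e.symm (alt_sharp hm hp hp2
      (by rw [← Nat.card_congr e.toEquiv]; exact hdvd) (fun h => hbad (h.congr e.symm)))
  by_cases c4 : Fintype.card F = 4
  · exact halt 5 le_rfl (Cfsg.Agent.S0252.result c4)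
  by_cases c5 : Fintype.card F = 5
  · exact halt 5 le_rfl (Cfsg.Agent.S0253.result c5)
  by_cases c9 : Fintype.card F = 9
  · exact halt 6 (by norm_num) (Cfsg.Agent.S0254.result c9)
  have c6 : Fintype.card F ≠ 6 := by
    intro h
    have h1 := Fintype.isPrimePow_card_of_field (α := F)
    rw [h] at h1
    obtain ⟨r, k, hr, hk, h2⟩ := (isPrimePow_nat_iff _).1 h1
    have h3 : r ∣ 6 := h2 ▸ dvd_pow_self r hk.ne'
    have h5 : r = 2 ∨ r = 3 := by
      have h6 : r ≤ 6 := Nat.le_of_dvd (by norm_num) h3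
      interval_cases r <;> revert hr h3 <;> decide
    rcases h5 with rfl | rfl
    · have h7 : 3 ∣ 2 ^ k := by rw [h2]; norm_num
      exact absurd (Nat.prime_three.dvd_of_dvd_pow h7) (by norm_num)
    · have h7 : 2 ∣ 3 ^ k := by rw [h2]; norm_num
      exact absurd (Nat.prime_two.dvd_of_dvd_pow h7) (by norm_num)
  refine Cfsg.Agent.H452.FprPsl2.row_psl2 hp2 (by omega) c9 ?_ (fun h => hbad
    (bad_psl_two hp hp2 h)) hdvd
  have := Cfsg.Agent.H110.Fpr.not_dvd_card hp hpF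
  rwa [Nat.card_eq_fintype_card] at this

end fam

/-- **The classical rows of S3578**, `p` odd, cross characteristic. -/
theorem classical_sharp (hC : CycPsl) {p : ℕ} (hp : p.Prime) (hp2 : p ≠ 2) {G : Type u} [Group G]
    [Finite G]
    (h : IsPSL G ∨ IsPSp G ∨ IsPSU G ∨ IsPOmegaOdd G ∨ IsPOmegaPlus G ∨ IsPOmegaMinus G)
    (hchar : ¬ IsLieTypeChar p G) (hdvd : p ∣ Nat.card G) (hbad : ¬ Bad p G) :
    FprRow (p + 1) 1 p G := by
  have hpf : Fact p.Prime := ⟨hp⟩
  rcases h with h | h | h | h | h | h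
  · obtain ⟨F, i1, i2, n, hn, hn2, ⟨e⟩⟩ := h
    have hpF : (p : F) ≠ 0 := fun h0 => hchar (Or.inl
      ⟨F, i1, i2, Cfsg.Agent.H110.Fpr.charP_of hp h0, n, hn, hn2, ⟨e⟩⟩)
    have : Finite (Matrix.ProjectiveSpecialLinearGroup (Fin n) F) := Finite.of_equiv G e.toEquiv
    have hdvd' : p ∣ Nat.card (Matrix.ProjectiveSpecialLinearGroup (Fin n) F) := by
      rw [← Nat.card_congr e.toEquiv]; exact hdvd
    refine FprRow.of_mulEquiv hp e.symm ?_
    rcases Nat.lt_or_ge n 3 with h3 | h3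
    · obtain rfl : n = 2 := by omega
      exact psl2_sharp hp hp2 (hn2 rfl) hpF hdvd' (fun h => hbad (h.congr e.symm))
    · refine psl_sharp hC hp hp2 h3 hpF hdvd' (fun hk h42 => ?_)
      obtain ⟨rfl, hF2⟩ := h42
      -- `p = 5`
      have h8 : p ∣ Nat.card (alternatingGroup (Fin 8)) := by
        obtain ⟨f⟩ := Cfsg.Agent.S0256.result hF2
        rw [← Nat.card_congr f.toEquiv]
        exact hdvd'
      have h9 : p ≤ 8 := by
        have : Nontrivial (Fin 8) := inferInstance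
        have h2 : Nat.card (Equiv.Perm (Fin 8)) = 2 * Nat.card (alternatingGroup (Fin 8)) := by
          rw [Nat.card_eq_fintype_card, Nat.card_eq_fintype_card, two_mul_card_alternatingGroup]
        have h3 : p ∣ Nat.card (Equiv.Perm (Fin 8)) := by
          rw [h2]
          exact h8.mul_left 2
        rw [Nat.card_perm, Nat.card_fin] at h3
        exact (hp.dvd_factorial).1 h3
      rw [hF2] at hk
      have h2 := hp.two_le
      have k2 := hk 2
      have k3 := hk 3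
      have hp5 : p = 5 := by
        interval_cases p
        · exact absurd rfl hp2
        · exact absurd (k2 (by norm_num)) (by norm_num)
        · exact absurd hp (by norm_num)
        · rfl
        · exact absurd hp (by norm_num)
        · exact absurd (k3 (by norm_num)) (by norm_num)
        · exact absurd hp (by norm_num)
      subst hp5
      exact hbad ((bad_psl_four hF2).congr e.symm)
  · obtain ⟨F, i1, i2, m, hm, hm2, ⟨e⟩⟩ := h
    have hpF : (p : F) ≠ 0 := fun h0 => hchar (Or.inr (Or.inl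
      ⟨F, i1, i2, Cfsg.Agent.H110.Fpr.charP_of hp h0, m, hm, hm2, ⟨e⟩⟩))
    have : Finite (PSp m F) := Finite.of_equiv G e.toEquiv
    exact (psp_sharp hC hp hp2 hm hm2 hpF
      (by rw [← Nat.card_congr e.toEquiv]; exact hdvd)).of_mulEquiv hp e.symm
  · obtain ⟨F, i1, i2, n, q, hF, hn, hn3, ⟨e⟩⟩ := h
    have hpF : (p : F) ≠ 0 := fun h0 => hchar (Or.inr (Or.inr (Or.inl
      ⟨F, i1, i2, Cfsg.Agent.H110.Fpr.charP_of hp h0, n, q, hF, hn, hn3, ⟨e⟩⟩)))
    have : Finite (PSU n F q) := Finite.of_equiv G e.toEquiv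
    refine (psu_sharp hC hp hp2 hF hn hn3 ?_ hpF
      (by rw [← Nat.card_congr e.toEquiv]; exact hdvd)).of_mulEquiv hp e.symm
    rintro ⟨rfl, rfl, rfl⟩
    obtain ⟨f⟩ := Cfsg.Agent.S0822.result (F := F) (K := ZMod 3) (by rw [hF]; norm_num)
      (ZMod.card 3)
    exact hchar (Or.inr (Or.inl ⟨ZMod 3, inferInstance, inferInstance, inferInstance, 2, le_rfl,
      fun _ => (ZMod.card 3).ge, ⟨e.trans f⟩⟩))
  · obtain ⟨F, i1, i2, m, hm, hodd, ⟨e⟩⟩ := h
    have hpF : (p : F) ≠ 0 := fun h0 => hchar (Or.inr (Or.inr (Or.inr (Or.inl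
      ⟨F, i1, i2, Cfsg.Agent.H110.Fpr.charP_of hp h0, m, hm, hodd, ⟨e⟩⟩))))
    have : Finite (POmega F (quadFormOdd m F)) := Finite.of_equiv G e.toEquiv
    exact (oodd_sharp hp hp2 hm hodd hpF
      (by rw [← Nat.card_congr e.toEquiv]; exact hdvd)).of_mulEquiv hp e.symm
  · obtain ⟨F, i1, i2, m, hm, ⟨e⟩⟩ := h
    have hpF : (p : F) ≠ 0 := fun h0 => hchar (Or.inr (Or.inr (Or.inr (Or.inr (Or.inl
      ⟨F, i1, i2, Cfsg.Agent.H110.Fpr.charP_of hp h0, m, hm, ⟨e⟩⟩)))))
    have : Finite (POmega F (quadFormPlus m F)) := Finite.of_equiv G e.toEquiv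
    exact (oplus_sharp hC hp hp2 hm hpF
      (by rw [← Nat.card_congr e.toEquiv]; exact hdvd)).of_mulEquiv hp e.symm
  · obtain ⟨F, i1, i2, m, a, b, hm, hab, ⟨e⟩⟩ := h
    have hpF : (p : F) ≠ 0 := fun h0 => hchar (Or.inr (Or.inr (Or.inr (Or.inr (Or.inr (Or.inl
      ⟨F, i1, i2, Cfsg.Agent.H110.Fpr.charP_of hp h0, m, a, b, hm, hab, ⟨e⟩⟩))))))
    have : Finite (POmega F (quadFormMinus (m - 1) F a b)) := Finite.of_equiv G e.toEquiv
    exact (ominus_sharp hC hp hp2 hm hab hpF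
      (by rw [← Nat.card_congr e.toEquiv]; exact hdvd)).of_mulEquiv hp e.symm

end Cfsg.Agent.H398.FPR
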