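import Cfsg.Agent.H398.FPR.Disp
import Cfsg.Agent.H398.FPR.SylNum
import Cfsg.Agent.H409.FprExcAll
import Cfsg.Agent.H400.FprE6Fin
import Cfsg.Agent.H435.Fpr.DFourRow
import Cfsg.Agent.H435.Fpr.DFourSharp
import Cfsg.Agent.H435.Fpr.FFourSeven

/-!
# S3578, S4183 from the sporadic rows
-/

set_option autoImplicit false
open Subgroup MulAction

namespace Cfsg.Agent.H398.FPR

open Cfsg
open Cfsg.Agent.H409

universe u v

theorem open78 : Cfsg.Agent.H409.Exc.Open78 where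
  f4_two_three K _ _ hK := by
    have hch : CharP K 2 := by
      obtain ⟨r, hr⟩ := CharP.exists K
      have hrp : r.Prime := CharP.char_is_prime K r
      have h1 : r ∣ 2 := by
        have := (CharP.cast_eq_zero_iff K r (Fintype.card K)).1 (FiniteField.cast_card_eq_zero K)
        rwa [hK] at this
      have h2 : r = 2 := (Nat.prime_dvd_prime_iff_eq hrp Nat.prime_two).1 h1
      rwa [h2] at hr
    exact Cfsg.Agent.H435.Fpr.F4S.row_three
  f4_seven K _ _ _ _ := Cfsg.Agent.H435.Fpr.F4S.row_seven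

theorem tw69 : Cfsg.Agent.H409.Exc.TwRows (fun p => 2 * p - 1) (fun p => p - 1) :=
  ⟨fun K _ _ q hq hK p hp hch hpG => by
    have := Fact.mk hp
    exact Cfsg.Agent.H435.Fpr.D4Row.row569 hq hK hch hpG,
  fun K _ _ q hq hK p hp hch hpG => by
    have := Fact.mk hp
    exact Cfsg.Agent.H400.Fpr.E6Row.row569 hq hK hch hpG⟩

theorem tw78 : Cfsg.Agent.H409.Exc.TwRows (fun p => p + 1) (fun _ => 1) :=
  ⟨fun K _ _ q hq hK p hp hch hpG => by
    have := Fact.mk hp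
    exact Cfsg.Agent.H435.Fpr.D4Row.row_sharp hq hK hch hpG,
  fun K _ _ q hq hK p hp hch hpG => by
    have := Fact.mk hp
    exact Cfsg.Agent.H400.Fpr.E6Row.row_sharp hq hK hch hpG⟩

/-- The sporadic rows. -/
def SporRows : Prop :=
  ∀ (S : Type u) [Group S] [Finite S] [IsSimpleGroup S], Cfsg.IsSporadicGroup S →
    ∀ p : ℕ, p.Prime → p ∣ Nat.card S → FprRow (p + 1) 1 p S

/-- **S3578, row form**, from the sporadic rows. -/
theorem fin_row (B : Cfsg.Agent.H940.Eng.Base)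
    (hcfsg : ∀ (S : Type u) [Group S] [Finite S] [IsSimpleGroup S], Cfsg.IsKnownSimple' S)
    (hspor : SporRows.{u}) {p : ℕ} [hp : Fact p.Prime]
    {G : Type u} [Group G] [Finite G]
    (hgen : Subgroup.closure {g : G | ∃ k : ℕ, orderOf g = p ^ k} = ⊤)
    (hA : ∀ (N : Subgroup G) [N.Normal] (m : ℕ), p + 1 < m → m < p ^ 2 - p →
      ¬ Nonempty (G ⧸ N ≃* ↥(alternatingGroup (Fin m))))
    (hS : ∀ (N : Subgroup G) [N.Normal] (k : ℕ), p + 1 = 2 ^ k →
      ¬ Nonempty (G ⧸ N ≃* Matrix.SpecialLinearGroup (Fin 2) (GaloisField 2 k))) :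
    FprRow (p + 1) 1 p G :=
  main_sharp_row hcfsg
    (fun _ S _ _ _ h hd => Cfsg.Agent.H409.Exc.exc69 B tw69 h Nat.prime_two hd)
    (fun _ S _ _ _ h hd => FprRow.weaken Nat.prime_two (hspor S h 2 Nat.prime_two hd))
    (fun hp2 S _ _ _ h hd => Cfsg.Agent.H409.Exc.exc78 B open78 tw78 h hp.out hp2 hd)
    (fun _ S _ _ _ h hd => hspor S h p hp.out hd) hgen hA hS

/-- **S3578** from the sporadic rows. -/
theorem fin78 (B : Cfsg.Agent.H940.Eng.Base)
    (hcfsg : ∀ (S : Type u) [Group S] [Finite S] [IsSimpleGroup S], Cfsg.IsKnownSimple' S)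
    (hspor : SporRows.{u}) {p : ℕ} [hp : Fact p.Prime]
    {G : Type u} {Ω : Type v} [Group G] [Finite G] [MulAction G Ω] [FaithfulSMul G Ω] [Finite Ω]
    (htrans : MulAction.IsPretransitive G Ω) (hpG : p ∣ Nat.card G)
    (hgen : Subgroup.closure {g : G | ∃ k : ℕ, orderOf g = p ^ k} = ⊤)
    (hA : ∀ (N : Subgroup G) [N.Normal] (m : ℕ), p + 1 < m → m < p ^ 2 - p →
      ¬ Nonempty (G ⧸ N ≃* ↥(alternatingGroup (Fin m))))
    (hS : ∀ (N : Subgroup G) [N.Normal] (k : ℕ), p + 1 = 2 ^ k →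
      ¬ Nonempty (G ⧸ N ≃* Matrix.SpecialLinearGroup (Fin 2) (GaloisField 2 k))) :
    ∃ x : G, (∃ k : ℕ, orderOf x = p ^ k) ∧
      (p + 1) * Nat.card (MulAction.fixedBy Ω x) ≤ Nat.card Ω :=
  main_sharp hcfsg
    (fun _ S _ _ _ h hd => Cfsg.Agent.H409.Exc.exc69 B tw69 h Nat.prime_two hd)
    (fun _ S _ _ _ h hd => FprRow.weaken Nat.prime_two (hspor S h 2 Nat.prime_two hd))
    (fun hp2 S _ _ _ h hd => Cfsg.Agent.H409.Exc.exc78 B open78 tw78 h hp.out hp2 hd)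
    (fun _ S _ _ _ h hd => hspor S h p hp.out hd) htrans hpG hgen hA hS

/-- **S4183** from the sporadic rows. -/
theorem fin4183 (B : Cfsg.Agent.H940.Eng.Base)
    (hcfsg : ∀ (S : Type u) [Group S] [Finite S] [IsSimpleGroup S], Cfsg.IsKnownSimple' S)
    (hspor : SporRows.{u}) {p : ℕ} [hp : Fact p.Prime]
    {G : Type u} [Group G] [Finite G]
    (hgen : Subgroup.closure {g : G | ∃ k : ℕ, orderOf g = p ^ k} = ⊤)
    (hA : ∀ (N : Subgroup G) [N.Normal] (m : ℕ), p + 1 < m → m < p ^ 2 - p →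
      ¬ Nonempty (G ⧸ N ≃* ↥(alternatingGroup (Fin m))))
    (hS : ∀ (N : Subgroup G) [N.Normal] (k : ℕ), p + 1 = 2 ^ k →
      ¬ Nonempty (G ⧸ N ≃* Matrix.SpecialLinearGroup (Fin 2) (GaloisField 2 k)))
    (H : Subgroup G) (hH : H ≠ ⊤) (P : Sylow p G) (hP : (P : Subgroup G) ≤ H) :
    (p + 1) * Nat.card (Sylow p ↥H) ≤ Nat.card (Sylow p G) := by
  have h := sylow_number_of_row (fin_row B hcfsg hspor hgen hA hS) hH hP
  rwa [one_mul] at h

end Cfsg.Agent.H398.FPR
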