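import Cfsg.Agent.H398.FPR.Over
import Cfsg.Agent.H398.FPR.HeisOne
import Cfsg.Agent.H110.Fpr.Expl

/-!
# Hyperbolic frames

`e i`, `f i` hyperbolic pairs, `T = ⟨e i⟩`, `T' = ⟨f i⟩`, `M = T^⊥ ∩ T'^⊥`.
-/

set_option autoImplicit false
open Subgroup MulAction

namespace Cfsg.Agent.H398.FPR

open Cfsg.Agent.TitsThree.Siegel Cfsg.Agent.TitsThree.SiegelGen Cfsg.Agent.H110.Fpr
open Cfsg.Agent.H435.Fpr (PairM)

variable {F : Type*} [Field F] {V : Type*} [AddCommGroup V] [Module F V]
variable {H : HForm F V} {P : PQ H}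

/-- A hyperbolic frame. -/
structure HFr {ι : Type*} [DecidableEq ι] (P : PQ H) (e f : ι → V) : Prop where
  es : ∀ i, P.ok (e i) 0
  fs : ∀ i, P.ok (f i) 0
  ee : ∀ i j, H.h (e i) (e j) = 0
  ff : ∀ i j, H.h (f i) (f j) = 0
  ef : ∀ i j, H.h (e i) (f j) = if i = j then 1 else 0

/-- the complement -/
def mid (H : HForm F V) {ι : Type*} (e f : ι → V) : Submodule F V :=
  perp H (Set.range e ∪ Set.range f)

section

variable {ι : Type*} [DecidableEq ι] {e f : ι → V}

omit [DecidableEq ι] in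
theorem mem_mid {v : V} : v ∈ mid H e f ↔ (∀ i, H.h v (e i) = 0) ∧ ∀ i, H.h v (f i) = 0 := by
  constructor
  · intro h
    exact ⟨fun i => h _ (Or.inl ⟨i, rfl⟩), fun i => h _ (Or.inr ⟨i, rfl⟩)⟩
  · rintro ⟨h1, h2⟩ u (⟨i, rfl⟩ | ⟨i, rfl⟩)
    · exact h1 i
    · exact h2 i

theorem HFr.fe (h : HFr P e f) (i j : ι) : H.h (f i) (e j) = if i = j then H.ε else 0 := by
  rw [H.swap (e j) (f i), h.ef]
  by_cases hij : i = j
  · rw [if_pos hij, if_pos hij.symm, map_one, mul_one]
  · rw [if_neg hij, if_neg (Ne.symm hij), map_zero, mul_zero]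

theorem sum_left {ι' : Type*} (s : Finset ι') (a : ι' → F) (x : ι' → V) (y : V) :
    H.h (∑ j ∈ s, a j • x j) y = ∑ j ∈ s, a j * H.h (x j) y := by
  classical
  induction s using Finset.induction_on with
  | empty => simp [H.zero_left]
  | insert j s hj ih => rw [Finset.sum_insert hj, Finset.sum_insert hj, H.add_left, H.smul_left, ih]

theorem HFr.dec [Fintype ι] (h : HFr P e f) (hnd : ∀ v : V, v ≠ 0 → ∃ w, H.h v w ≠ 0) :
    Dec P (Submodule.span F (Set.range e)) (mid H e f) (Submodule.span F (Set.range f)) where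
  top := by
    rw [eq_top_iff]
    intro v _
    have hv : v = ∑ j, H.h v (f j) • e j +
        (v - ∑ j, H.h v (f j) • e j - ∑ j, (H.ε⁻¹ * H.h v (e j)) • f j) +
        ∑ j, (H.ε⁻¹ * H.h v (e j)) • f j := by abel
    rw [hv]
    refine Submodule.add_mem_sup (Submodule.add_mem_sup ?_ ?_) ?_
    · exact Submodule.sum_mem _ fun j _ =>
        Submodule.smul_mem _ _ (Submodule.subset_span ⟨j, rfl⟩)
    · rw [mem_mid]
      constructor
      · intro i
        rw [H.sub_left, H.sub_left, sum_left, sum_left]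
        simp only [h.ee, h.fe, mul_zero, Finset.sum_const_zero, sub_zero, mul_ite,
          Finset.sum_ite_eq', Finset.mem_univ, if_true]
        field_simp [H.ε_ne]
        ring
      · intro i
        rw [H.sub_left, H.sub_left, sum_left, sum_left]
        simp only [h.ff, h.ef, mul_zero, Finset.sum_const_zero, sub_zero, mul_ite, mul_one,
          Finset.sum_ite_eq', Finset.mem_univ, if_true]
        ring
    · exact Submodule.sum_mem _ fun j _ =>
        Submodule.smul_mem _ _ (Submodule.subset_span ⟨j, rfl⟩)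
  s1 := span_sing (by rintro _ ⟨i, rfl⟩ _ ⟨j, rfl⟩; exact h.ee i j)
    (by rintro _ ⟨i, rfl⟩; exact h.es i)
  s2 := span_sing (by rintro _ ⟨i, rfl⟩ _ ⟨j, rfl⟩; exact h.ff i j)
    (by rintro _ ⟨i, rfl⟩; exact h.fs i)
  o1 := span_orth (by rintro _ ⟨i, rfl⟩ _ ⟨j, rfl⟩; exact h.ee i j)
  o2 := span_orth (by rintro _ ⟨i, rfl⟩ _ ⟨j, rfl⟩; exact h.ff i j)
  m1 := fun u hu w hw => perp_orth u hu w (perp_anti Set.subset_union_left hw)
  m2 := fun u hu w hw => perp_orth u hu w (perp_anti Set.subset_union_right hw)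
  nd := hnd

omit [DecidableEq ι] in
/-- an element fixing `M`: what is needed for `XAct` -/
theorem xact_of {x : V ≃ₗ[F] V} (hxS : x ∈ SG P) (he : ∀ i, x (e i) ∈ Submodule.span F (Set.range e))
    (hf : ∀ i, x (f i) ∈ Submodule.span F (Set.range f)) (hm : ∀ w ∈ mid H e f, x w = w) :
    XAct P (Submodule.span F (Set.range e)) (mid H e f) (Submodule.span F (Set.range f)) x := by
  obtain ⟨h1, h2, -⟩ := SG_iso hxS
  refine ⟨h1, h2, ?_, ?_, hm⟩
  · intro u hu
    have : Submodule.span F (Set.range e) ≤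
        (Submodule.span F (Set.range e)).comap (x : V →ₗ[F] V) := by
      rw [Submodule.span_le]
      rintro _ ⟨i, rfl⟩
      exact he i
    exact this hu
  · intro u hu
    have : Submodule.span F (Set.range f) ≤
        (Submodule.span F (Set.range f)).comap (x : V →ₗ[F] V) := by
      rw [Submodule.span_le]
      rintro _ ⟨i, rfl⟩
      exact hf i
    exact this hu

end

/-- scalars on the two totally singular subspaces -/
theorem freeOn_scal [Finite V] {T M T' : Submodule F V} (d : Dec P T M T') {x : V ≃ₗ[F] V}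
    (a : XAct P T M T' x) {lam mu : F} (h1 : ∀ t ∈ T, x t = lam • t) (h2 : ∀ t ∈ T', x t = mu • t)
    (hl : lam ≠ 1) (hlm : lam ≠ mu) : FreeOn x (rad P T (T ⊔ M)) := by
  apply freeOn_rad d a
  · intro t ht hx
    rw [h1 t ht] at hx
    have h3 : (lam - 1) • t = 0 := by rw [sub_smul, one_smul, hx, sub_self]
    exact (smul_eq_zero.1 h3).resolve_left (sub_ne_zero.2 hl)
  · intro τ hτ1 hτ2 v hv
    have h3 := hτ2 v hv
    rw [h1 _ (hτ1 v hv), h2 v hv, map_smul] at h3
    have h4 : (lam - mu) • τ v = 0 := by rw [sub_smul, h3, sub_self]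
    exact (smul_eq_zero.1 h4).resolve_left (sub_ne_zero.2 hlm)

/-- The product of four transvections in characteristic two. -/
theorem diag_apply (h2 : (2 : F) = 0) (A B : F → V ≃ₗ[F] V) {u u' : V}
    (a1 : ∀ s, A s u = u) (a2 : ∀ s, A s u' = u' + s • u) (b1 : ∀ s, B s u' = u')
    (b2 : ∀ s, B s u = u + s • u') {lam : F} (hl : lam ≠ 0) :
    (A lam * B ((lam + 1) / lam) * A 1 * B (lam + 1)) u = lam • u ∧
    (A lam * B ((lam + 1) / lam) * A 1 * B (lam + 1)) u' = lam⁻¹ • u' := by
  constructor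
  · show A lam (B ((lam + 1) / lam) (A 1 (B (lam + 1) u))) = lam • u
    simp only [b2, b1, a1, a2, map_add, map_smul]
    match_scalars
    · field_simp
      linear_combination (1 + lam + lam ^ 2 + (1 + lam)) * h2
    · field_simp
      linear_combination (1 + lam + lam ^ 2 + lam) * h2
  · show A lam (B ((lam + 1) / lam) (A 1 (B (lam + 1) u'))) = lam⁻¹ • u'
    simp only [b2, b1, a1, a2, map_add, map_smul]
    match_scalars
    · field_simp
      linear_combination (1 + lam + lam ^ 2 - (1 + lam ^ 2)) * h2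
    · field_simp
      linear_combination (1 + lam + lam ^ 2 - lam ^ 2) * h2

end Cfsg.Agent.H398.FPR
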