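import Cfsg.Agent.H398.FPR.TFour

/-!
# Fixed point free action on the radicals

If `x` normalises `R` and `C_R(x) = 1`, then every `R`-orbit contains at most one fixed point of `x`.
-/

set_option autoImplicit false
open Subgroup MulAction
open scoped Pointwise

namespace Cfsg.Agent.H398.FPR

open Cfsg.Agent.H435.Fpr (PairM orbit_ratio_M)

/-- `x` normalises `R` and `C_R(x) = 1`. -/
structure FreeOn {G : Type*} [Group G] (x : G) (R : Subgroup G) : Prop where
  norm : x ∈ normalizer (R : Set G)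
  free : ∀ r ∈ R, x * r * x⁻¹ = r → r = 1

section

variable {G X : Type*} [Group G] [MulAction G X]

/-- The map `r ↦ r⁻¹ (x r x⁻¹)` is onto for invariant subgroups. -/
theorem FreeOn.lang [Finite G] {x : G} {R : Subgroup G} (h : FreeOn x R) {R0 : Subgroup G}
    (h0 : R0 ≤ R) (hx0 : x ∈ normalizer (R0 : Set G)) {r : G} (hr : r ∈ R)
    (hr0 : r⁻¹ * (x * r * x⁻¹) ∈ R0) : r ∈ R0 := by
  have hc : ∀ s : R0, (s : G)⁻¹ * (x * s * x⁻¹) ∈ R0 := fun s =>
    mul_mem (inv_mem s.2) ((mem_normalizer_iff.1 hx0 _).1 s.2)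
  have key : ∀ a ∈ R, ∀ b ∈ R, a⁻¹ * (x * a * x⁻¹) = b⁻¹ * (x * b * x⁻¹) → a = b := by
    intro a ha b hb hab
    have h1 : b * a⁻¹ = 1 := by
      apply h.free _ (mul_mem hb (inv_mem ha))
      have h2 : x * (b * a⁻¹) * x⁻¹ = b * (b⁻¹ * (x * b * x⁻¹)) * (a⁻¹ * (x * a * x⁻¹))⁻¹ * a⁻¹ := by
        group
      rw [h2, ← hab]
      group
    rw [mul_inv_eq_one] at h1
    exact h1.symm
  let L : R0 → R0 := fun s => ⟨(s : G)⁻¹ * (x * s * x⁻¹), hc s⟩
  have hinj : Function.Injective L := by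
    intro s t hst
    apply Subtype.ext
    exact key s (h0 s.2) t (h0 t.2) (congrArg Subtype.val hst)
  have hsurj := Finite.surjective_of_injective hinj
  obtain ⟨s, hs⟩ := hsurj ⟨_, hr0⟩
  have h3 := key s (h0 s.2) r hr (congrArg Subtype.val hs)
  rw [← h3]
  exact s.2

/-- At most one fixed point in each orbit. -/
theorem FreeOn.unique [Finite G] {x : G} {R : Subgroup G} (h : FreeOn x R) {ω : X}
    (hω : ω ∈ fixedBy X x) {z : X} (hz : z ∈ fixedBy X x) (hzω : z ∈ orbit R ω) : z = ω := by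
  obtain ⟨r, rfl⟩ := hzω
  have hω' : x • ω = ω := hω
  have hz' : x • ((r : G) • ω) = (r : G) • ω := hz
  have hx0 : x ∈ normalizer ((R ⊓ stabilizer G ω : Subgroup G) : Set G) := by
    rw [mem_normalizer_iff]
    intro g
    rw [mem_inf, mem_inf]
    have hxω : x ∈ stabilizer G ω := hω
    constructor
    · rintro ⟨h1, h2⟩
      exact ⟨(mem_normalizer_iff.1 h.norm g).1 h1, mul_mem (mul_mem hxω h2) (inv_mem hxω)⟩
    · rintro ⟨h1, h2⟩
      refine ⟨(mem_normalizer_iff.1 h.norm g).2 h1, ?_⟩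
      have h3 := mul_mem (mul_mem (inv_mem hxω) h2) hxω
      have h4 : x⁻¹ * (x * g * x⁻¹) * x = g := by group
      rwa [h4] at h3
  have h1 : (r : G) ∈ R ⊓ stabilizer G ω := by
    apply h.lang inf_le_left hx0 r.2
    rw [mem_inf]
    refine ⟨mul_mem (inv_mem r.2) ((mem_normalizer_iff.1 h.norm _).1 r.2), ?_⟩
    rw [mem_stabilizer_iff]
    have h2 : ((r : G)⁻¹ * (x * r * x⁻¹)) • ω = (r : G)⁻¹ • (x • ((r : G) • (x⁻¹ • ω))) := by
      simp only [smul_smul, mul_assoc]
    have h3 : x⁻¹ • ω = ω := by rw [inv_smul_eq_iff, hω']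
    rw [h2, h3, hz', inv_smul_smul]
  exact h1.2

/-- The orbits of the fixed points are disjoint. -/
theorem FreeOn.sum_le [Finite G] [Finite X] {x : G} {R : Subgroup G} (h : FreeOn x R) {c : ℕ}
    {F : Finset X} (hF : ∀ ω ∈ F, ω ∈ fixedBy X x)
    (hc : c ≤ ∑ ω ∈ F, (orbit R ω).ncard) : c ≤ Nat.card X := by
  classical
  have := Fintype.ofFinite X
  refine hc.trans ?_
  have h1 : ∑ ω ∈ F, (orbit R ω).ncard = (F.biUnion fun ω => (orbit R ω).toFinset).card := by
    rw [Finset.card_biUnion]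
    · apply Finset.sum_congr rfl
      intro ω _
      rw [Set.ncard_eq_toFinset_card']
    · intro a ha b hb hab
      rw [Function.onFun, Finset.disjoint_left]
      intro z hza hzb
      rw [Set.mem_toFinset] at hza hzb
      apply hab
      have h2 : a ∈ orbit R b := by
        rw [← orbit_eq_iff] at hza hzb ⊢
        rw [← hza, hzb]
      exact h.unique (hF b hb) (hF a ha) h2
  rw [h1, Nat.card_eq_fintype_card]
  exact Finset.card_le_univ _

/-- **Two fixed point free radicals**: the sum of the lengths of the two orbits is enough. -/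
theorem two_free [Finite G] [Finite X] {M : ℕ} {x : G} {R1 R2 : Subgroup G} (h1 : FreeOn x R1)
    (h2 : FreeOn x R2)
    (h : ∀ ω ∈ fixedBy X x, 2 * M ≤ (orbit R1 ω).ncard + (orbit R2 ω).ncard) :
    M * Nat.card (fixedBy X x) ≤ Nat.card X := by
  classical
  have := Fintype.ofFinite X
  let F : Finset X := (fixedBy X x).toFinset
  have hF : ∀ ω ∈ F, ω ∈ fixedBy X x := fun ω hω => Set.mem_toFinset.1 hω
  have a1 := h1.sum_le hF le_rfl
  have a2 := h2.sum_le hF le_rfl
  have a3 : F.card * (2 * M) ≤ ∑ ω ∈ F, ((orbit R1 ω).ncard + (orbit R2 ω).ncard) := by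
    rw [← smul_eq_mul, ← Finset.sum_const]
    exact Finset.sum_le_sum fun ω hω => h ω (hF ω hω)
  rw [Finset.sum_add_distrib] at a3
  have a4 : F.card = Nat.card (fixedBy X x) := by
    rw [Nat.card_coe_set_eq, Set.ncard_eq_toFinset_card']
  rw [a4] at a3
  have a5 : Nat.card (fixedBy X x) * (2 * M) = 2 * (M * Nat.card (fixedBy X x)) := by ring
  omega

/-- The length of an orbit of a subgroup. -/
theorem ncard_orbit_eq [Finite G] (R : Subgroup G) (ω : X) :
    (orbit R ω).ncard = (stabilizer G ω).relIndex R := by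
  rw [relIndex, ← Nat.card_coe_set_eq]
  have h1 : (stabilizer G ω).subgroupOf R = stabilizer R ω := by
    ext r
    rfl
  rw [h1]
  exact Nat.card_congr (orbitEquivQuotientStabilizer R ω)

/-- Weighted form for one transitive set. -/
theorem two_free_one [Finite G] {M : ℕ} {x : G} {R1 R2 : Subgroup G} (h1 : FreeOn x R1)
    (h2 : FreeOn x R2) {H : Subgroup G}
    (h : ∀ g : G, x ∈ H.map (MulAut.conj g).toMonoidHom →
      2 * M ≤ (H.map (MulAut.conj g).toMonoidHom).relIndex R1 +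
        (H.map (MulAut.conj g).toMonoidHom).relIndex R2) :
    M * Nat.card (fixedBy (G ⧸ H) x) ≤ Nat.card (G ⧸ H) := by
  apply two_free h1 h2
  intro ω hω
  rw [ncard_orbit_eq, ncard_orbit_eq]
  obtain ⟨g, rfl⟩ := QuotientGroup.mk_surjective ω
  have hst : stabilizer G ((g : G) : G ⧸ H) = H.map (MulAut.conj g).toMonoidHom := by
    ext a
    rw [mem_stabilizer_iff]
    have h3 : a • ((g : G) : G ⧸ H) = ((a * g : G) : G ⧸ H) := rfl
    rw [h3, eq_comm, QuotientGroup.eq]
    constructor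
    · intro h
      refine ⟨g⁻¹ * (a * g), h, ?_⟩
      show g * (g⁻¹ * (a * g)) * g⁻¹ = a
      group
    · rintro ⟨b, hb, rfl⟩
      have : g⁻¹ * ((MulAut.conj g).toMonoidHom b * g) = b := by
        show g⁻¹ * (g * b * g⁻¹ * g) = b
        group
      rw [this]
      exact hb
  rw [hst]
  apply h g
  rw [← hst]
  exact hω

/-- **Two fixed point free radicals**, uniform form. -/
theorem two_free_uGood [Finite G] {M : ℕ} {x : G} {R1 R2 : Subgroup G} (h1 : FreeOn x R1)
    (h2 : FreeOn x R2)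
    (h : ∀ H : Subgroup G, H ≠ ⊤ → x ∈ H → 2 * M ≤ H.relIndex R1 + H.relIndex R2) :
    UGood 1 M x := by
  intro H hH
  rw [one_mul]
  apply two_free h1 h2
  intro ω hω
  rw [ncard_orbit_eq, ncard_orbit_eq]
  exact h _ (stabilizer_ne_top_of_ne hH ω) hω

end

section

variable {G : Type*} [Group G]

theorem relIndex_mul_card [Finite G] (H R : Subgroup G) :
    H.relIndex R * Nat.card (H ⊓ R : Subgroup G) = Nat.card R := by
  have h1 := Subgroup.card_mul_index (H.subgroupOf R)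
  have h2 : Nat.card (H.subgroupOf R) = Nat.card (H ⊓ R : Subgroup G) := by
    rw [← Subgroup.inf_subgroupOf_right]
    exact Nat.card_congr (subgroupOfEquivOfLe inf_le_right).toEquiv
  rw [h2, mul_comm] at h1
  exact h1

/-- The index of a proper `x`-invariant subgroup is at least `M`. -/
theorem le_relIndex_of_pairM [Finite G] {M : ℕ} {x : G} {R : Subgroup G}
    (hM : PairM M x R) {H : Subgroup G} (hxH : x ∈ H) (hR : ¬ R ≤ H) : M ≤ H.relIndex R := by
  have h1 := orbit_ratio_M (X := G ⧸ H) hM (ω := ((1 : G) : G ⧸ H)) (by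
    show ((x * 1 : G) : G ⧸ H) = ((1 : G) : G ⧸ H)
    rw [mul_one, eq_comm, QuotientGroup.eq, inv_one, one_mul]
    exact hxH) (by
    intro h2
    apply hR
    intro r hr
    have h3 : r • ((1 : G) : G ⧸ H) = ((1 : G) : G ⧸ H) := h2 hr
    have h4 : ((r * 1 : G) : G ⧸ H) = ((1 : G) : G ⧸ H) := h3
    rw [mul_one, eq_comm, QuotientGroup.eq, inv_one, one_mul] at h4
    exact h4)
  rw [ncard_orbit_eq] at h1
  have h5 : stabilizer G ((1 : G) : G ⧸ H) = H := by
    ext a
    rw [mem_stabilizer_iff]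
    have h3 : a • ((1 : G) : G ⧸ H) = ((a * 1 : G) : G ⧸ H) := rfl
    rw [h3, mul_one, eq_comm, QuotientGroup.eq, inv_one, one_mul]
  rw [h5] at h1
  have h6 : 0 < (fixedBy (G ⧸ H) x ∩ orbit R ((1 : G) : G ⧸ H)).ncard := by
    rw [Set.ncard_pos (Set.toFinite _)]
    refine ⟨((1 : G) : G ⧸ H), ?_, mem_orbit_self _⟩
    show ((x * 1 : G) : G ⧸ H) = ((1 : G) : G ⧸ H)
    rw [mul_one, eq_comm, QuotientGroup.eq, inv_one, one_mul]
    exact hxH
  calc M = M * 1 := (mul_one _).symm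
    _ ≤ M * (fixedBy (G ⧸ H) x ∩ orbit R ((1 : G) : G ⧸ H)).ncard := Nat.mul_le_mul_left _ h6
    _ ≤ _ := h1

/-- Ratio on the `R2`-orbit of a fixed point, when `C_{R2}(x) = 1`. -/
theorem FreeOn.ratio [Finite G] {X : Type*} [MulAction G X] {N : ℕ} {x : G} {R : Subgroup G}
    (h : FreeOn x R) {ω : X} (hω : ω ∈ fixedBy X x) (hN : N ≤ (stabilizer G ω).relIndex R) :
    N * (fixedBy X x ∩ orbit R ω).ncard ≤ (orbit R ω).ncard := by
  have h1 : fixedBy X x ∩ orbit R ω = {ω} := by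
    ext z
    constructor
    · rintro ⟨hz1, hz2⟩
      exact h.unique hω hz1 hz2
    · rintro rfl
      exact ⟨hω, mem_orbit_self _⟩
  rw [h1, Set.ncard_singleton, mul_one, ncard_orbit_eq]
  exact hN

/-- **T4**, version with `C_{R i}(x) = 1`: the assumption on the `R2`-orbits of the common fixed
points of `K` and `R1` is an assumption on the overgroups of `⟨K, R1⟩`. -/
theorem t4_free [Finite G] {M : ℕ} (hM : 2 ≤ M) {x : G} {K R1 R2 : Subgroup G}
    (hxK : x ∈ K) (hK : UGood 1 M (⟨x, hxK⟩ : K))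
    (hn1 : K ≤ normalizer (R1 : Set G)) (hn2 : K ≤ normalizer (R2 : Set G))
    (h1 : PairM M x R1) (h2 : PairM M x R2) (f1 : FreeOn x R1) (f2 : FreeOn x R2)
    (hb1 : ∀ H : Subgroup G, H ≠ ⊤ → K ≤ H → R1 ≤ H → 2 * M - 1 ≤ H.relIndex R2)
    (hb2 : ∀ H : Subgroup G, H ≠ ⊤ → K ≤ H → R2 ≤ H → 2 * M - 1 ≤ H.relIndex R1) :
    UGood 1 M x := by
  intro H hH
  rw [one_mul]
  apply t4_set hM hxK hK hn1 hn2 h1 h2
  · intro ω hω
    exact f2.ratio (hω.2 hxK) (hb1 _ (stabilizer_ne_top_of_ne hH ω) hω.2 hω.1)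
  · intro ω hω
    exact f1.ratio (hω.2 hxK) (hb2 _ (stabilizer_ne_top_of_ne hH ω) hω.2 hω.1)

end

end Cfsg.Agent.H398.FPR
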