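import Cfsg.Agent.H398.FPR.COneO
import Cfsg.Agent.H221.PPBase

/-!
# The subgroup `SL(T)` of the isometry group

`V = T ⊕ M ⊕ T'` with a hyperbolic frame; the root elements `S(u, t', 0)`, `u ∈ T`, `t' ∈ T'`,
generate a subgroup isomorphic to `SL(T)`.
-/

set_option autoImplicit false
open Subgroup MulAction

namespace Cfsg.Agent.H398.FPR

open Cfsg.Agent.TitsThree.Siegel Cfsg.Agent.TitsThree.SiegelGen Cfsg.Agent.H110.Fpr
open Cfsg.Agent.H435.Fpr (PairM)
open Cfsg.Agent.H221.PP

variable {F : Type*} [Field F] {V : Type*} [AddCommGroup V] [Module F V]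
variable {H : HForm F V} {P : PQ H}

/-- the subgroup generated by the root elements -/
def KT (H : HForm F V) (T T' : Submodule F V) : Subgroup (V ≃ₗ[F] V) :=
  Subgroup.closure {g | ∃ (u t : V) (hu : H.h u u = 0) (ht : H.h u t = 0), u ∈ T ∧ t ∈ T' ∧
    g = H.sie u t 0 hu ht}

variable {T M T' : Submodule F V}

theorem sie_mem_KT {u t : V} (hu : H.h u u = 0) (ht : H.h u t = 0) (huT : u ∈ T) (htT : t ∈ T') :
    H.sie u t 0 hu ht ∈ KT H T T' :=
  subset_closure ⟨u, t, hu, ht, huT, htT, rfl⟩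

theorem Dec.KT_le (d : Dec P T M T') : KT H T T' ≤ SG P := by
  unfold KT
  rw [closure_le]
  rintro _ ⟨u, t, hu, ht, huT, htT, rfl⟩
  exact sie_mem_SG P hu ht (d.s1 u huT) (d.s2 t htT)

/-- stabilises `T`, `T'` and fixes `M` -/
structure KProp (T M T' : Submodule F V) (g : V ≃ₗ[F] V) : Prop where
  t1 : ∀ t ∈ T, g t ∈ T
  t2 : ∀ t ∈ T', g t ∈ T'
  m : ∀ w ∈ M, g w = w

theorem Dec.sie_kprop (d : Dec P T M T') {u t : V} (hu : H.h u u = 0) (ht : H.h u t = 0)
    (huT : u ∈ T) (htT : t ∈ T') (c : F) (hc : c = 0) : KProp T M T' (H.sie u t c hu ht) := by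
  subst hc
  refine ⟨fun v hv => ?_, fun v hv => ?_, fun v hv => ?_⟩
  · rw [H.sie_apply, d.o1 v hv u huT]
    have e : v + (0 : F) • t - (H.ε⁻¹ * H.h v t) • u + ((0 : F) * 0) • u =
        v + (-(H.ε⁻¹ * H.h v t)) • u := by module
    rw [e]
    exact T.add_mem hv (T.smul_mem _ huT)
  · rw [H.sie_apply, d.o2 v hv t htT]
    have e : v + H.h v u • t - (H.ε⁻¹ * (0 : F)) • u + ((0 : F) * H.h v u) • u =
        v + H.h v u • t := by module
    rw [e]
    exact T'.add_mem hv (T'.smul_mem _ htT)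
  · rw [H.sie_apply, H.orth_symm (d.m1 u huT v hv), H.orth_symm (d.m2 t htT v hv)]
    simp

theorem Dec.kprop (d : Dec P T M T') {g : V ≃ₗ[F] V} (hg : g ∈ KT H T T') :
    KProp T M T' g ∧ KProp T M T' g⁻¹ := by
  unfold KT at hg
  induction hg using Subgroup.closure_induction with
  | mem g hg =>
    obtain ⟨u, t, hu, ht, huT, htT, rfl⟩ := hg
    refine ⟨d.sie_kprop hu ht huT htT 0 rfl, ?_⟩
    rw [H.sie_inv]
    exact d.sie_kprop _ _ huT (T'.neg_mem htT) _ (by rw [d.o2 t htT t htT]; ring)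
  | one =>
    have : KProp T M T' (1 : V ≃ₗ[F] V) := ⟨fun _ h => h, fun _ h => h, fun _ _ => rfl⟩
    exact ⟨this, by rw [inv_one]; exact this⟩
  | mul g g' _ _ ih ih' =>
    refine ⟨⟨fun v hv => ih.1.t1 _ (ih'.1.t1 v hv), fun v hv => ih.1.t2 _ (ih'.1.t2 v hv),
      fun v hv => ?_⟩, ?_⟩
    · show g (g' v) = v
      rw [ih'.1.m v hv, ih.1.m v hv]
    · rw [mul_inv_rev]
      refine ⟨fun v hv => ih'.2.t1 _ (ih.2.t1 v hv), fun v hv => ih'.2.t2 _ (ih.2.t2 v hv),
        fun v hv => ?_⟩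
      show g'⁻¹ (g⁻¹ v) = v
      rw [ih.2.m v hv, ih'.2.m v hv]
  | inv g _ ih => exact ⟨ih.2, by rw [inv_inv]; exact ih.1⟩

/-- the restriction to `T` -/
def res (d : Dec P T M T') (g : KT H T T') : T ≃ₗ[F] T where
  toFun t := ⟨(g : V ≃ₗ[F] V) t, (d.kprop g.2).1.t1 t t.2⟩
  map_add' a b := Subtype.ext ((g : V ≃ₗ[F] V).map_add a b)
  map_smul' c a := Subtype.ext ((g : V ≃ₗ[F] V).map_smul c a)
  invFun t := ⟨(g : V ≃ₗ[F] V)⁻¹ t, (d.kprop g.2).2.t1 t t.2⟩
  left_inv t := Subtype.ext ((g : V ≃ₗ[F] V).symm_apply_apply t)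
  right_inv t := Subtype.ext ((g : V ≃ₗ[F] V).apply_symm_apply t)

/-- the restriction as a homomorphism -/
def resHom (d : Dec P T M T') : KT H T T' →* (T ≃ₗ[F] T) where
  toFun := res d
  map_one' := by ext t; rfl
  map_mul' a b := by ext t; rfl

theorem resHom_apply (d : Dec P T M T') (g : KT H T T') (t : T) :
    ((resHom d g t : T) : V) = (g : V ≃ₗ[F] V) t := rfl

/-- the functional of a root element -/
def func (H : HForm F V) (T : Submodule F V) (t : V) : T →ₗ[F] F where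
  toFun v := -(H.ε⁻¹ * H.h v t)
  map_add' a b := by rw [Submodule.coe_add, H.add_left]; ring
  map_smul' c a := by rw [Submodule.coe_smul, H.smul_left, RingHom.id_apply, smul_eq_mul]; ring

theorem resHom_sie (d : Dec P T M T') {u t : V} (hu : H.h u u = 0) (ht : H.h u t = 0)
    (huT : u ∈ T) (htT : t ∈ T') :
    resHom d ⟨H.sie u t 0 hu ht, sie_mem_KT hu ht huT htT⟩ =
      LinearEquiv.transvection (f := func H T t) (v := ⟨u, huT⟩) (by
        show -(H.ε⁻¹ * H.h u t) = 0
        rw [ht, mul_zero, neg_zero]) := by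
  ext v
  rw [resHom_apply, LinearEquiv.transvection.apply]
  show H.sie u t 0 hu ht v = v + (-(H.ε⁻¹ * H.h v t)) • u
  rw [H.sie_apply, d.o1 v v.2 u huT]
  module

theorem det_resHom [Finite V] (d : Dec P T M T') (g : KT H T T') :
    LinearEquiv.det (resHom d g) = 1 := by
  have hfin : Module.Finite F V := Module.Finite.of_finite
  have key : ∀ g (hg : g ∈ KT H T T'), LinearEquiv.det (resHom d ⟨g, hg⟩) = 1 := by
    intro g hg
    have hg' := hg
    unfold KT at hg'
    induction hg' using Subgroup.closure_induction with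
    | mem g hg'' =>
      obtain ⟨u, t, hu, ht, huT, htT, rfl⟩ := hg''
      rw [resHom_sie d hu ht huT htT]
      exact LinearEquiv.transvection.det_eq_one _
    | one =>
      have : (⟨1, hg⟩ : KT H T T') = 1 := rfl
      rw [this, map_one, map_one]
    | mul a b ha hb iha ihb =>
      have : (⟨a * b, hg⟩ : KT H T T') = ⟨a, ha⟩ * ⟨b, hb⟩ := rfl
      rw [this, map_mul, map_mul, iha ha, ihb hb, one_mul]
    | inv a ha iha =>
      have : (⟨a⁻¹, hg⟩ : KT H T T') = (⟨a, ha⟩ : KT H T T')⁻¹ := rfl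
      rw [this, map_inv, map_inv, iha ha, inv_one]
  exact key g.1 g.2

/-- the restriction to `SL(T)` -/
def resSL [Finite V] (d : Dec P T M T') : KT H T T' →* SpecialLinearGroup F T where
  toFun g := ⟨resHom d g, det_resHom d g⟩
  map_one' := by
    apply ext'
    intro t
    rfl
  map_mul' a b := by
    apply ext'
    intro t
    rfl

theorem resSL_apply [Finite V] (d : Dec P T M T') (g : KT H T T') (t : T) :
    ((resSL d g t : T) : V) = (g : V ≃ₗ[F] V) t := rfl

theorem resSL_injective [Finite V] (d : Dec P T M T') : Function.Injective (resSL d) := by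
  rw [injective_iff_map_eq_one]
  intro g hg
  have h1 : ∀ t ∈ T, (g : V ≃ₗ[F] V) t = t := by
    intro t ht
    have := congrArg (fun s : SpecialLinearGroup F T => ((s ⟨t, ht⟩ : T) : V)) hg
    exact this
  have hp := (d.kprop g.2).1
  obtain ⟨hgi, -, -⟩ := SG_iso (d.KT_le g.2)
  apply Subtype.ext
  ext v
  obtain ⟨t, ht, m, hm, t', ht', rfl⟩ := d.exists_eq v
  show (g : V ≃ₗ[F] V) (t + m + t') = t + m + t'
  rw [map_add, map_add, h1 t ht, hp.m m hm]
  congr 1
  rw [← sub_eq_zero]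
  have hmem : (g : V ≃ₗ[F] V) t' - t' ∈ T' := T'.sub_mem (hp.t2 t' ht') ht'
  apply d.eq_zero
  · intro s hs
    rw [H.sub_left]
    have h3 := hgi t' s
    rw [h1 s hs] at h3
    rw [h3, sub_self]
  · exact fun m hm => d.m2 _ hmem m hm
  · exact fun s hs => d.o2 _ hmem s hs

theorem resSL_surjective [Finite V] {ι : Type*} [DecidableEq ι] [Fintype ι] {e f : ι → V}
    (hfr : HFr P e f)
    (d : Dec P (Submodule.span F (Set.range e)) (mid H e f) (Submodule.span F (Set.range f))) :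
    Function.Surjective (resSL d) := by
  have hfin : Module.Finite F V := Module.Finite.of_finite
  rw [← MonoidHom.range_eq_top]
  apply eq_top_of_tv
  intro φ w hw
  obtain ⟨E, hE⟩ : ∃ E : ι → Submodule.span F (Set.range e),
      ∀ i, (E i : V) = e i := ⟨fun i => ⟨e i, Submodule.subset_span ⟨i, rfl⟩⟩, fun _ => rfl⟩
  obtain ⟨t, ht⟩ : ∃ t, t = ∑ i, H.σ (-(H.ε * φ (E i))) • f i := ⟨_, rfl⟩
  have htT : t ∈ Submodule.span F (Set.range f) := by
    rw [ht]
    exact Submodule.sum_mem _ fun i _ => Submodule.smul_mem _ _ (Submodule.subset_span ⟨i, rfl⟩)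
  have sum_right : ∀ (a : ι → F) (x : ι → V) (y : V),
      H.h y (∑ j, a j • x j) = ∑ j, H.σ (a j) * H.h y (x j) := by
    intro a x y
    rw [H.swap, sum_left, map_sum, Finset.mul_sum]
    refine Finset.sum_congr rfl fun j _ => ?_
    rw [map_mul, H.swap (x j) y]
    ring
  have hφE : ∀ i, φ (E i) = func H (Submodule.span F (Set.range e)) t (E i) := by
    intro i
    show φ (E i) = -(H.ε⁻¹ * H.h (E i : V) t)
    rw [hE, ht, sum_right]
    simp only [hfr.ef, mul_ite, mul_one, mul_zero, Finset.sum_ite_eq, Finset.mem_univ, if_true,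
      H.σσ]
    field_simp [H.ε_ne]
  have hφ : φ = func H (Submodule.span F (Set.range e)) t := by
    apply LinearMap.ext
    rintro ⟨v, hv⟩
    induction hv using Submodule.span_induction with
    | mem v hv =>
      obtain ⟨i, rfl⟩ := hv
      have := hφE i
      have hEi : E i = ⟨e i, Submodule.subset_span ⟨i, rfl⟩⟩ := Subtype.ext (hE i)
      rw [hEi] at this
      exact this
    | zero =>
      have h0 : (⟨0, Submodule.zero_mem _⟩ : Submodule.span F (Set.range e)) = 0 := rfl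
      rw [h0, map_zero, map_zero]
    | add a b ha hb iha ihb =>
      have h0 : (⟨a + b, Submodule.add_mem _ ha hb⟩ : Submodule.span F (Set.range e)) =
        ⟨a, ha⟩ + ⟨b, hb⟩ := rfl
      rw [h0, map_add, map_add, iha, ihb]
    | smul c a ha iha =>
      have h0 : (⟨c • a, Submodule.smul_mem _ c ha⟩ : Submodule.span F (Set.range e)) =
        c • ⟨a, ha⟩ := rfl
      rw [h0, map_smul, map_smul, iha]
  subst hφ
  have hww := d.o1 w w.2 w w.2
  have hwt : H.h (w : V) t = 0 := by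
    have h3 : -(H.ε⁻¹ * H.h (w : V) t) = 0 := hw
    have h4 : H.ε⁻¹ * H.h (w : V) t = 0 := by linear_combination -h3
    exact (mul_eq_zero.1 h4).resolve_left (inv_ne_zero H.ε_ne)
  refine ⟨⟨H.sie w t 0 hww hwt, sie_mem_KT hww hwt w.2 htT⟩, ?_⟩
  apply ext'
  intro v
  apply Subtype.ext
  rw [resSL_apply, tv_apply]
  show H.sie w t 0 hww hwt v = v + (-(H.ε⁻¹ * H.h v t)) • (w : V)
  rw [H.sie_apply, d.o1 v v.2 w w.2]
  module

end Cfsg.Agent.H398.FPR
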