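import Cfsg.Agent.H398.FPR.Rad

/-!
# Overgroups of the radicals

If a proper subgroup `D` of `SG P` contains all Siegel elements at the points of `T`, then the
`D`-images of `T` are pairwise orthogonal, hence `D` meets the opposite radical in a small subgroup.
-/

set_option autoImplicit false
open Subgroup MulAction

namespace Cfsg.Agent.H398.FPR

open Cfsg.Agent.TitsThree.Siegel Cfsg.Agent.TitsThree.SiegelGen Cfsg.Agent.H110.Fpr
open Cfsg.Agent.H435.Fpr (PairM)

section Abs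

variable {G : Type*} [Group G]

/-- The index of `H ∩ Q` in `Q` if `H` does not meet the central subgroup `Z` and `(H ∩ Q) Z ≠ Q`. -/
theorem central_relIndex [Finite G] {Q Z H : Subgroup G} (hZ : Z ≤ Q)
    (hc : ∀ z ∈ Z, ∀ g ∈ Q, z * g = g * z) (hH : ∀ z ∈ Z, z ∈ H → z = 1)
    (hne : ∃ q ∈ Q, ∀ a ∈ H ⊓ Q, ∀ z ∈ Z, q ≠ a * z) : 2 * Nat.card Z ≤ H.relIndex Q := by
  classical
  have h1 := relIndex_mul_card H Q
  let B : Subgroup G :=
    { carrier := {g | ∃ a ∈ H ⊓ Q, ∃ z ∈ Z, g = a * z}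
      one_mem' := ⟨1, one_mem _, 1, one_mem _, (one_mul 1).symm⟩
      mul_mem' := by
        rintro _ _ ⟨a, ha, z, hz, rfl⟩ ⟨b, hb, w, hw, rfl⟩
        refine ⟨a * b, mul_mem ha hb, z * w, mul_mem hz hw, ?_⟩
        have h2 := hc z hz b hb.2
        calc a * z * (b * w) = a * (z * b) * w := by group
          _ = a * (b * z) * w := by rw [h2]
          _ = a * b * (z * w) := by group
      inv_mem' := by
        rintro _ ⟨a, ha, z, hz, rfl⟩
        refine ⟨a⁻¹, inv_mem ha, z⁻¹, inv_mem hz, ?_⟩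
        rw [mul_inv_rev]
        exact hc _ (inv_mem hz) _ (inv_mem ha).2 }
  have hBQ : B ≤ Q := by
    rintro _ ⟨a, ha, z, hz, rfl⟩
    exact mul_mem ha.2 (hZ hz)
  have hBc : Nat.card B = Nat.card (H ⊓ Q : Subgroup G) * Nat.card Z := by
    rw [← Nat.card_prod]
    apply Nat.card_congr
    symm
    refine Equiv.ofBijective (fun a => (⟨a.1 * a.2, a.1, a.1.2, a.2, a.2.2, rfl⟩ : B)) ⟨?_, ?_⟩
    · rintro ⟨a, z⟩ ⟨b, w⟩ hab
      have h2 : (a : G) * z = b * w := congrArg Subtype.val hab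
      have h3 : (b : G)⁻¹ * a = w * (z : G)⁻¹ := by
        rw [inv_mul_eq_iff_eq_mul, ← mul_assoc, ← h2, mul_inv_cancel_right]
      have h4 : (w : G) * (z : G)⁻¹ = 1 := by
        apply hH _ (mul_mem w.2 (inv_mem z.2))
        rw [← h3]
        exact mul_mem (inv_mem b.2.1) a.2.1
      have h5 : (w : G) = z := mul_inv_eq_one.1 h4
      rw [h4, inv_mul_eq_one] at h3
      rw [Prod.mk.injEq]
      exact ⟨Subtype.ext h3.symm, Subtype.ext h5.symm⟩
    · rintro ⟨_, a, ha, z, hz, rfl⟩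
      exact ⟨(⟨a, ha⟩, ⟨z, hz⟩), rfl⟩
  have hBlt : B ≠ Q := by
    intro h
    obtain ⟨q, hq, hq'⟩ := hne
    rw [← h] at hq
    obtain ⟨a, ha, z, hz, h2⟩ := hq
    exact hq' a ha z hz h2
  have hdvd : Nat.card B ∣ Nat.card Q := card_dvd_of_le hBQ
  obtain ⟨c, hc'⟩ := hdvd
  have hc2 : 2 ≤ c := by
    by_contra hlt
    have hc0 : c ≠ 0 := by
      rintro rfl
      rw [mul_zero] at hc'
      exact absurd hc' Nat.card_pos.ne'
    have hc1 : c = 1 := by omega
    apply hBlt
    apply Subgroup.eq_of_le_of_card_ge hBQ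
    rw [hc', hc1, mul_one]
  have h3 : (H.relIndex Q) * Nat.card (H ⊓ Q : Subgroup G) =
      (c * Nat.card Z) * Nat.card (H ⊓ Q : Subgroup G) := by
    rw [h1, hc', hBc]
    ring
  have h4 : H.relIndex Q = c * Nat.card Z := Nat.eq_of_mul_eq_mul_right Nat.card_pos h3
  rw [h4]
  exact Nat.mul_le_mul_right _ hc2

theorem relIndex_eq_card_of_disjoint [Finite G] {Q H : Subgroup G} (h : H ⊓ Q = ⊥) :
    H.relIndex Q = Nat.card Q := by
  have h1 := relIndex_mul_card H Q
  rw [h, Subgroup.card_bot, mul_one] at h1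
  exact h1

/-- a group on which `x` acts freely has order at least `M` -/
theorem FreeOn.le_card [Finite G] {p k r m : ℕ} (hp : p.Prime) (hr : r.Prime) {x : G}
    {R : Subgroup G} (h : FreeOn x R) (hx : x ^ p ^ k = 1) (hR : IsPGroup r R)
    (hM : ∀ t : ℕ, t ≠ 0 → r ^ t ≡ 1 [MOD p] → m ≤ r ^ t) (hR1 : ∃ g ∈ R, g ≠ 1) :
    m ≤ Nat.card R := by
  have h1 : ∀ g ∈ R, g ∈ zpowers x → g = 1 := by
    intro g hg hgx
    apply h.free g hg
    obtain ⟨i, rfl⟩ := mem_zpowers_iff.1 hgx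
    group
  have h2 := le_relIndex_of_pairM (h.pairM hp hr hx hR hM) (mem_zpowers x) (by
    intro hle
    obtain ⟨g, hg, hg1⟩ := hR1
    exact hg1 (h1 g hg (hle hg)))
  refine h2.trans ?_
  have h3 := relIndex_mul_card (zpowers x) R
  rw [← h3]
  exact Nat.le_mul_of_pos_right _ Nat.card_pos

/-- two different kinds of nontrivial elements: the order is at least `2 p + 1` -/
theorem FreeOn.le_card_two [Finite G] {p k : ℕ} (hp : p.Prime) {x : G}
    {R : Subgroup G} (h : FreeOn x R) (hx : x ^ p ^ k = 1) (Q : G → Prop)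
    (hQ : ∀ g, Q g ↔ Q (x * g * x⁻¹)) {g1 g2 : G} (h1 : g1 ∈ R) (h1' : g1 ≠ 1) (h1Q : Q g1)
    (h2 : g2 ∈ R) (h2' : g2 ≠ 1) (h2Q : ¬ Q g2) : 2 * p + 1 ≤ Nat.card R := by
  classical
  have : Fact p.Prime := ⟨hp⟩
  -- `⟨x⟩` acts on the elements of `R`
  have hpow : ∀ n : ℕ, ∀ g, g ∈ R → x ^ n * g * (x ^ n)⁻¹ ∈ R := by
    intro n
    induction n with
    | zero => intro g hg; simpa using hg
    | succ n ih =>
      intro g hg
      have h3 := (mem_normalizer_iff.1 h.norm _).1 (ih g hg)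
      have e : x ^ (n + 1) * g * (x ^ (n + 1))⁻¹ = x * (x ^ n * g * (x ^ n)⁻¹) * x⁻¹ := by
        rw [pow_succ']; group
      rwa [e]
  have hpowQ : ∀ n : ℕ, ∀ g, Q g ↔ Q (x ^ n * g * (x ^ n)⁻¹) := by
    intro n
    induction n with
    | zero => intro g; simp
    | succ n ih =>
      intro g
      have e : x ^ (n + 1) * g * (x ^ (n + 1))⁻¹ = x * (x ^ n * g * (x ^ n)⁻¹) * x⁻¹ := by
        rw [pow_succ']; group
      rw [e, ← hQ, ← ih]
  -- orbits
  have hinj : ∀ g ∈ R, g ≠ 1 → Function.Injective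
      (fun i : Fin p => x ^ (i : ℕ) * g * (x ^ (i : ℕ))⁻¹) := by
    intro g hg hg1
    have key : ∀ i j : ℕ, i < j → j < p → x ^ i * g * (x ^ i)⁻¹ = x ^ j * g * (x ^ j)⁻¹ →
        False := by
      intro i j hij hj hc
      have h3 : x ^ (j - i) * g * (x ^ (j - i))⁻¹ = g := by
        have e : x ^ j = x ^ i * x ^ (j - i) := by rw [← pow_add]; congr 1; omega
        rw [e] at hc
        have h4 : (x ^ i)⁻¹ * (x ^ i * g * (x ^ i)⁻¹) * x ^ i =
            (x ^ i)⁻¹ * (x ^ i * x ^ (j - i) * g * (x ^ i * x ^ (j - i))⁻¹) * x ^ i := by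
          rw [hc]
        have h5 : (x ^ i)⁻¹ * (x ^ i * g * (x ^ i)⁻¹) * x ^ i = g := by group
        rw [h5] at h4
        have h6 : x ^ (j - i) * g * (x ^ (j - i))⁻¹ =
            (x ^ i)⁻¹ * (x ^ i * x ^ (j - i) * g * (x ^ i * x ^ (j - i))⁻¹) * x ^ i := by
          group
        rw [h6]
        exact h4.symm
      have hcop : Nat.Coprime (j - i) (p ^ k) := by
        apply Nat.Coprime.pow_right
        rw [Nat.coprime_comm]
        apply (Nat.Prime.coprime_iff_not_dvd hp).2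
        intro hd
        have := Nat.le_of_dvd (by omega) hd
        omega
      -- `x` is a power of `x ^ (j - i)`
      have hgen : x ∈ zpowers (x ^ (j - i)) := by
        have h6 : (orderOf x).Coprime (j - i) :=
          Nat.Coprime.coprime_dvd_left (orderOf_dvd_of_pow_eq_one hx) hcop.symm
        have h7 := Nat.Coprime.symm h6
        rw [mem_zpowers_iff]
        obtain ⟨m, hm⟩ := exists_pow_eq_self_of_coprime (n := j - i) (x := x) h7
        exact ⟨m, by rw [zpow_natCast]; exact hm⟩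
      have hcent : ∀ y ∈ zpowers (x ^ (j - i)), y * g = g * y := by
        intro y hy
        have h8 : zpowers (x ^ (j - i)) ≤ centralizer {g} := by
          rw [zpowers_le, mem_centralizer_singleton_iff]
          exact mul_inv_eq_iff_eq_mul.1 h3
        exact mem_centralizer_singleton_iff.1 (h8 hy)
      apply hg1
      apply h.free g hg
      rw [mul_inv_eq_iff_eq_mul]
      exact hcent x hgen
    intro i j hij
    apply Fin.ext
    by_contra hne
    rcases Nat.lt_or_gt_of_ne hne with h4 | h4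
    · exact key i j h4 j.2 hij
    · exact key j i h4 i.2 hij.symm
  let S : Finset G := {1} ∪ (Finset.univ.image fun i : Fin p => x ^ (i : ℕ) * g1 * (x ^ (i : ℕ))⁻¹) ∪
    (Finset.univ.image fun i : Fin p => x ^ (i : ℕ) * g2 * (x ^ (i : ℕ))⁻¹)
  have hS : (S : Set G) ⊆ R := by
    intro g hg
    simp only [S, Finset.coe_union, Finset.coe_singleton, Finset.coe_image, Finset.coe_univ,
      Set.image_univ, Set.mem_union, Set.mem_singleton_iff, Set.mem_range] at hg
    rcases hg with (rfl | ⟨i, rfl⟩) | ⟨i, rfl⟩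
    · exact one_mem _
    · exact hpow _ _ h1
    · exact hpow _ _ h2
  have hne1 : ∀ g, g ≠ 1 → ∀ n : ℕ, x ^ n * g * (x ^ n)⁻¹ ≠ 1 := by
    intro g hg n hc
    apply hg
    rw [mul_inv_eq_one] at hc
    exact mul_left_cancel (a := x ^ n) (by rw [hc, mul_one])
  have hcard : S.card = 1 + p + p := by
    simp only [S]
    rw [Finset.card_union_of_disjoint, Finset.card_union_of_disjoint,
      Finset.card_image_of_injective _ (hinj g1 h1 h1'),
      Finset.card_image_of_injective _ (hinj g2 h2 h2'), Finset.card_singleton, Finset.card_univ,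
      Fintype.card_fin]
    · rw [Finset.disjoint_left]
      intro a ha hb
      rw [Finset.mem_singleton] at ha
      rw [Finset.mem_image] at hb
      obtain ⟨i, -, hi⟩ := hb
      exact hne1 g1 h1' _ (hi.trans ha)
    · rw [Finset.disjoint_left]
      intro a ha hb
      rw [Finset.mem_image] at hb
      obtain ⟨i, -, rfl⟩ := hb
      rw [Finset.mem_union, Finset.mem_singleton, Finset.mem_image] at ha
      rcases ha with ha | ⟨j, -, hj⟩
      · exact hne1 g2 h2' _ ha
      · apply h2Q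
        rw [hpowQ i g2, ← hj, ← hpowQ j g1]
        exact h1Q
  have h3 : S.card ≤ Nat.card R := by
    have h4 := Set.ncard_le_ncard hS (Set.toFinite _)
    rw [Set.ncard_coe_finset] at h4
    exact h4
  rw [hcard] at h3
  omega

end Abs

variable {F : Type*} [Field F] {V : Type*} [AddCommGroup V] [Module F V]
variable {H : HForm F V} {P : PQ H} {T M T' : Submodule F V}

theorem Zt.conj {D : Subgroup (V ≃ₗ[F] V)} {u : V} (hz : Zt P D Set.univ u) {g : V ≃ₗ[F] V}
    (hg : g ∈ D) (hgi : H.IsIso g) (hok : ∀ w c, P.ok w c → P.ok (g⁻¹ w) c) :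
    Zt P D Set.univ (g u) := by
  intro w c hx hw _ hwc
  have e : g (g⁻¹ w) = w := g.apply_symm_apply w
  have h1 : H.h u (g⁻¹ w) = 0 := by rw [← hgi, e, hw]
  have h2 : H.h u u = 0 := by rw [← hgi]; exact hx
  have h3 := D.mul_mem (D.mul_mem hg (hz (g⁻¹ w) c h2 h1 (Set.mem_univ _) (hok _ _ hwc)))
    (D.inv_mem hg)
  rw [H.conj_sie hgi] at h3
  rwa [H.sie_congr _ _ hx hw rfl e rfl] at h3

/-- **The images of `T` are orthogonal.** -/
theorem over_orth {D : Subgroup (V ≃ₗ[F] V)} (hD : D ≤ SG P) (hD' : ¬ SG P ≤ D)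
    (hT : ∀ u ∈ T, P.ok u 0) (hz : ∀ u ∈ T, Zt P D Set.univ u)
    (hnd : ∀ v : V, v ≠ 0 → ∃ w, H.h v w ≠ 0) {g : V ≃ₗ[F] V} (hg : g ∈ D) {u v : V} (hu : u ∈ T)
    (hv : v ∈ T) : H.h (g u) v = 0 := by
  obtain ⟨hgi, hok, hok'⟩ := SG_iso (hD hg)
  by_contra hne
  exact hD' (all_of_pair (hz v hv) (Zt.conj (hz u hu) hg hgi hok') (hT v hv) (hok _ _ (hT u hu))
    hne (fun w _ hw => hnd w hw))

/-- the elements of the opposite radical acting trivially on `M` -/
def zrad (P : PQ H) (T M : Submodule F V) : Subgroup (V ≃ₗ[F] V) :=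
  rad P T (T ⊔ M) ⊓
    { carrier := {g | ∀ m ∈ M, g m = m}
      one_mem' := fun _ _ => rfl
      mul_mem' := fun {a b} ha hb m hm => by
        show a (b m) = m
        rw [hb m hm, ha m hm]
      inv_mem' := fun {a} ha m hm => by
        have h := ha m hm
        show a.symm m = m
        rw [LinearEquiv.symm_apply_eq, h] }

theorem mem_zrad {g : V ≃ₗ[F] V} : g ∈ zrad P T M ↔ g ∈ rad P T (T ⊔ M) ∧ ∀ m ∈ M, g m = m :=
  Iff.rfl

/-- elements of `zrad` are `1 + (T' → T)` -/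
theorem Dec.zrad_mid (d : Dec P T M T') {g : V ≃ₗ[F] V} (hg : g ∈ zrad P T M) (v : V) :
    g v - v ∈ T := by
  have hr := d.inRad hg.1
  apply d.mem_of_orth2 (hr.orth v)
  intro m hm
  have h1 := hr.iso v m
  rw [hg.2 m hm] at h1
  rw [H.sub_left, h1, sub_self]

/-- `zrad` is central in the radical. -/
theorem Dec.zrad_central (d : Dec P T M T') : ∀ z ∈ zrad P T M, ∀ g ∈ rad P T (T ⊔ M),
    z * g = g * z := by
  intro z hz g hg
  have hg' := d.inRad hg
  have hz' := d.inRad hz.1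
  ext v
  show z (g v) = g (z v)
  have h1 : z (g v) - g v = z v - v := by
    have e : z (g v) - g v = (z v - v) + (z (g v - v) - (g v - v)) := by
      rw [map_sub]; abel
    obtain ⟨t, ht, m, hm, h2⟩ := d.mem_of_orth (hg'.orth v)
    rw [e, h2, map_add, hz'.fix t ht, hz.2 m hm, sub_self, add_zero]
  have h2 : g (z v) - g v = z v - v := by
    rw [← map_sub, hg'.fix _ (d.zrad_mid hz v)]
  rw [← sub_eq_zero]
  have e : z (g v) - g (z v) = (z (g v) - g v) - (g (z v) - g v) := by abel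
  rw [e, h1, h2, sub_self]

/-- `D` does not meet `zrad` on the other side -/
theorem over_zrad (d : Dec P T M T') {D : Subgroup (V ≃ₗ[F] V)} (hD : D ≤ SG P)
    (hD' : ¬ SG P ≤ D) (hz : ∀ u ∈ T, Zt P D Set.univ u) : ∀ z ∈ zrad P T' M, z ∈ D → z = 1 := by
  intro z hz' hzD
  have h1 : ∀ v, z v - v ∈ T' := d.symm.zrad_mid hz'
  have hr := d.symm.inRad hz'.1
  have h2 : ∀ u ∈ T, z u = u := by
    intro u hu
    rw [← sub_eq_zero]
    apply d.eq_zero
    · intro t ht
      rw [H.sub_left, over_orth hD hD' d.s1 hz d.nd hzD hu ht, d.o1 u hu t ht, sub_zero]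
    · exact fun m hm => d.m2 _ (h1 u) m hm
    · exact fun t ht => d.o2 _ (h1 u) t ht
  ext v
  obtain ⟨t, ht, m, hm, t', ht', rfl⟩ := d.exists_eq v
  show z (t + m + t') = t + m + t'
  rw [map_add, map_add, h2 t ht, hz'.2 m hm, hr.fix t' ht']

/-- **The index of `D` in the opposite radical, `M ≠ 0`.** -/
theorem over_relIndex [Finite V] (d : Dec P T M T') {D : Subgroup (V ≃ₗ[F] V)} (hD : D ≤ SG P)
    (hD' : ¬ SG P ≤ D) (hz : ∀ u ∈ T, Zt P D Set.univ u) {u u' : V} (hu : u ∈ T) (hu' : u' ∈ T')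
    (huu' : H.h u u' ≠ 0) {m m' : V} (hm : m ∈ M) (hm' : m' ∈ M) (hmm' : H.h m m' ≠ 0) :
    2 * Nat.card (zrad P T' M) ≤ D.relIndex (rad P T' (T' ⊔ M)) := by
  have hs1 := d.s2 u' hu'
  have hh1 := P.iso hs1
  -- the elements `S(u', w, c)`
  have hel : ∀ w ∈ M, ∃ g ∈ rad P T' (T' ⊔ M), g u = u + H.h u u' • w + (g u - u - H.h u u' • w) ∧
      g u - u - H.h u u' • w ∈ T' := by
    intro w hw
    obtain ⟨c, hc⟩ := P.ex w
    have h1 : H.h u' w = 0 := d.m2 u' hu' w hw
    refine ⟨H.sie u' w c hh1 h1, sie_mem_rad _ _ hu' (Submodule.mem_sup_right hw) hc, by abel, ?_⟩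
    rw [H.sie_apply]
    have e : u + H.h u u' • w - (H.ε⁻¹ * H.h u w) • u' + (c * H.h u u') • u' - u - H.h u u' • w =
        (-(H.ε⁻¹ * H.h u w) + c * H.h u u') • u' := by module
    rw [e]
    exact T'.smul_mem _ hu'
  apply central_relIndex inf_le_left d.symm.zrad_central (over_zrad d hD hD' hz)
  by_contra hcon
  push Not at hcon
  -- then for each `w` there is an element of `D` moving `u` to `u + h u u' • w`
  have key : ∀ w ∈ M, ∃ g ∈ D, g u = u + H.h u u' • w := by
    intro w hw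
    obtain ⟨q, hq, hq1, hq2⟩ := hel w hw
    obtain ⟨a, ha, z, hz', hqa⟩ := hcon q hq
    have haR := d.symm.inRad ha.2
    refine ⟨a, ha.1, ?_⟩
    -- `a u = u + h • w + t'`
    have hz1 : z u - u ∈ T' := d.symm.zrad_mid hz' u
    have h1 : q u = a u + (z u - u) := by
      rw [hqa]
      show a (z u) = _
      have e : z u = u + (z u - u) := by abel
      conv_lhs => rw [e, map_add, haR.fix _ hz1]
    have h2 : a u - u - H.h u u' • w ∈ T' := by
      have e : a u - u - H.h u u' • w = (q u - u - H.h u u' • w) - (z u - u) := by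
        rw [h1]; abel
      rw [e]
      exact T'.sub_mem hq2 hz1
    have h3 : a u - u - H.h u u' • w = 0 := by
      apply d.eq_zero
      · intro t ht
        rw [H.sub_left, H.sub_left, over_orth hD hD' d.s1 hz d.nd ha.1 hu ht, d.o1 u hu t ht,
          H.smul_left, H.orth_symm (d.m1 t ht w hw)]
        simp
      · exact fun m hm => d.m2 _ h2 m hm
      · exact fun t ht => d.o2 _ h2 t ht
    have e : a u = u + H.h u u' • w + (a u - u - H.h u u' • w) := by abel
    rw [e, h3, add_zero]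
  obtain ⟨g, hg, hgu⟩ := key m hm
  obtain ⟨g', hg', hgu'⟩ := key m' hm'
  have h1 : H.h (g u) (g' u) = 0 := by
    obtain ⟨hgi, -, -⟩ := SG_iso (hD hg')
    have h2 := over_orth hD hD' d.s1 hz d.nd (D.mul_mem (D.inv_mem hg') hg) hu hu
    rw [← hgi] at h2
    have e : g' ((g'⁻¹ * g) u) = g u := g'.apply_symm_apply (g u)
    rwa [e] at h2
  rw [hgu, hgu', H.add_left, H.add_right, H.add_right, H.smul_left, H.smul_right, H.smul_left,
    H.smul_right, d.o1 u hu u hu, d.m1 u hu m' hm', H.orth_symm (d.m1 u hu m hm)] at h1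
  simp only [mul_zero, zero_add, mul_eq_zero, huu', hmm', or_false,
    EmbeddingLike.map_eq_zero_iff] at h1

/-- **The index of `D` in the opposite radical, `M = 0`.** -/
theorem over_relIndex_bot [Finite V] (d : Dec P T ⊥ T') {D : Subgroup (V ≃ₗ[F] V)} (hD : D ≤ SG P)
    (hD' : ¬ SG P ≤ D) (hz : ∀ u ∈ T, Zt P D Set.univ u) :
    D.relIndex (rad P T' (T' ⊔ ⊥)) = Nat.card (rad P T' (T' ⊔ ⊥)) := by
  apply relIndex_eq_card_of_disjoint
  rw [eq_bot_iff]
  rintro g ⟨hgD, hg⟩
  rw [mem_bot]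
  refine over_zrad d hD hD' hz g ⟨hg, ?_⟩ hgD
  intro m hm
  have hm0 : m = 0 := hm
  rw [hm0]
  exact map_zero g

/-- Siegel elements at the points of `T`: from the radical and the root elements `T × T'`. -/
theorem over_zt (d : Dec P T M T') {D : Subgroup (V ≃ₗ[F] V)} (hR : rad P T (T ⊔ M) ≤ D)
    (hK : ∀ u ∈ T, ∀ t ∈ T', H.h u t = 0 → Rt H D u t) : ∀ u ∈ T, Zt P D Set.univ u := by
  intro u hu w c huu huw _ hwc
  have hus := d.s1 u hu
  have z1 : ∀ w ∈ T ⊔ M, Zt P D {w} u := by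
    intro w hw x c hx hux hxw hxc
    rw [Set.mem_singleton_iff] at hxw
    subst hxw
    exact hR (sie_mem_rad _ _ hu hw hxc)
  have z0 : Zt P D {0} u := z1 0 (Submodule.zero_mem _)
  obtain ⟨t, ht, m, hm, t', ht', rfl⟩ := d.exists_eq w
  have h1 : H.h u (t + m) = 0 := by rw [H.add_right, d.o1 u hu t ht, d.m1 u hu m hm, add_zero]
  have h2 : H.h u t' = 0 := by
    rw [H.add_right, h1, zero_add] at huw
    exact huw
  have h3 := Zt.of_rt P hus (d.s2 t' ht') h2 z0 (hK u hu t' ht' h2) 1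
  rw [one_smul] at h3
  exact Zt.add P hus z0 (z1 (t + m) (Submodule.add_mem_sup ht hm)) h3 h1 h2 (t + m + t') c huu huw
    rfl hwc

end Cfsg.Agent.H398.FPR
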