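import Cfsg.Agent.H398.FPR.Free
import Cfsg.Agent.H110.Fpr.Row

/-!
# Radicals in the isometry groups

`V = T ⊕ M ⊕ T'`, `T`, `T'` totally singular, `M ⊥ T, T'`. Elements of `rad P T (T ⊔ M)`, free action.
-/

set_option autoImplicit false
open Subgroup MulAction

namespace Cfsg.Agent.H398.FPR

open Cfsg.Agent.TitsThree.Siegel Cfsg.Agent.TitsThree.SiegelGen Cfsg.Agent.H110.Fpr
open Cfsg.Agent.H435.Fpr (PairM)

variable {F : Type*} [Field F] {V : Type*} [AddCommGroup V] [Module F V]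
variable {H : HForm F V} {P : PQ H}

/-- The decomposition `V = T ⊕ M ⊕ T'`. -/
structure Dec (P : PQ H) (T M T' : Submodule F V) : Prop where
  top : T ⊔ M ⊔ T' = ⊤
  s1 : ∀ u ∈ T, P.ok u 0
  s2 : ∀ u ∈ T', P.ok u 0
  o1 : ∀ u ∈ T, ∀ v ∈ T, H.h u v = 0
  o2 : ∀ u ∈ T', ∀ v ∈ T', H.h u v = 0
  m1 : ∀ u ∈ T, ∀ w ∈ M, H.h u w = 0
  m2 : ∀ u ∈ T', ∀ w ∈ M, H.h u w = 0
  nd : ∀ v : V, v ≠ 0 → ∃ w, H.h v w ≠ 0

variable {T M T' : Submodule F V}

theorem Dec.symm (d : Dec P T M T') : Dec P T' M T where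
  top := by rw [← d.top, sup_comm T' M, sup_comm T M, sup_assoc, sup_assoc, sup_comm T T']
  s1 := d.s2
  s2 := d.s1
  o1 := d.o2
  o2 := d.o1
  m1 := d.m2
  m2 := d.m1
  nd := d.nd

theorem Dec.exists_eq (d : Dec P T M T') (v : V) :
    ∃ t ∈ T, ∃ m ∈ M, ∃ t' ∈ T', v = t + m + t' := by
  have hv : v ∈ T ⊔ M ⊔ T' := by rw [d.top]; trivial
  obtain ⟨a, ha, t', ht', rfl⟩ := Submodule.mem_sup.1 hv
  obtain ⟨t, ht, m, hm, rfl⟩ := Submodule.mem_sup.1 ha
  exact ⟨t, ht, m, hm, t', ht', rfl⟩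

theorem Dec.eq_zero (d : Dec P T M T') {v : V} (h1 : ∀ t ∈ T, H.h v t = 0)
    (h2 : ∀ m ∈ M, H.h v m = 0) (h3 : ∀ t ∈ T', H.h v t = 0) : v = 0 := by
  by_contra hv
  obtain ⟨w, hw⟩ := d.nd v hv
  apply hw
  obtain ⟨t, ht, m, hm, t', ht', rfl⟩ := d.exists_eq w
  rw [H.add_right, H.add_right, h1 t ht, h2 m hm, h3 t' ht']
  simp

/-- vectors orthogonal to `T` -/
theorem Dec.mem_of_orth (d : Dec P T M T') {v : V} (h1 : ∀ t ∈ T, H.h v t = 0) :
    ∃ t ∈ T, ∃ m ∈ M, v = t + m := by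
  obtain ⟨t, ht, m, hm, t', ht', rfl⟩ := d.exists_eq v
  have h2 : t' = 0 := by
    apply d.eq_zero
    · intro s hs
      have h3 := h1 s hs
      rw [H.add_left, H.add_left, d.o1 t ht s hs, H.orth_symm (d.m1 s hs m hm), zero_add,
        zero_add] at h3
      exact h3
    · exact fun m hm => d.m2 t' ht' m hm
    · exact fun s hs => d.o2 t' ht' s hs
  exact ⟨t, ht, m, hm, by rw [h2, add_zero]⟩

/-- vectors orthogonal to `T` and `M` -/
theorem Dec.mem_of_orth2 (d : Dec P T M T') {v : V} (h1 : ∀ t ∈ T, H.h v t = 0)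
    (h2 : ∀ m ∈ M, H.h v m = 0) : v ∈ T := by
  obtain ⟨t, ht, m, hm, rfl⟩ := d.mem_of_orth h1
  have h3 : m = 0 := by
    apply d.eq_zero
    · exact fun s hs => H.orth_symm (d.m1 s hs m hm)
    · intro m' hm'
      have h3 := h2 m' hm'
      rwa [H.add_left, d.m1 t ht m' hm', zero_add] at h3
    · exact fun s hs => H.orth_symm (d.m2 s hs m hm)
  rw [h3, add_zero]
  exact ht

/-- Elements of the radical. -/
structure InRad (P : PQ H) (T : Submodule F V) (g : V ≃ₗ[F] V) : Prop where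
  fix : ∀ t ∈ T, g t = t
  mid : ∀ v, (∀ t ∈ T, H.h v t = 0) → g v - v ∈ T
  orth : ∀ v, ∀ t ∈ T, H.h (g v - v) t = 0
  iso : H.IsIso g
  ok : ∀ w c, P.ok w c → P.ok (g w) c

theorem inRad_of_mem {W : Submodule F V} (ho : ∀ u ∈ T, ∀ v ∈ T, H.h u v = 0)
    (hs : ∀ u ∈ T, P.ok u 0)
    (hW : ∀ u ∈ T, ∀ w ∈ W, H.h u w = 0) {g : V ≃ₗ[F] V} (hg : g ∈ rad P T W) :
    InRad P T g := by
  have key : ∀ g ∈ rad P T W, InRad P T g ∧ InRad P T g⁻¹ := by
    intro g hg
    unfold rad at hg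
    have one : InRad P T 1 := by
      refine ⟨fun _ _ => rfl, fun v _ => ?_, fun v t ht => ?_, fun _ _ => rfl, fun _ _ h => h⟩
      · show v - v ∈ T
        rw [sub_self]
        exact T.zero_mem
      · show H.h (v - v) t = 0
        rw [sub_self, H.zero_left]
    have mul : ∀ a b : V ≃ₗ[F] V, InRad P T a → InRad P T b → InRad P T (a * b) := by
      intro a b ha hb
      refine ⟨fun t ht => ?_, fun v hv => ?_, fun v t ht => ?_, HForm.IsIso.mul H ha.iso hb.iso,
        fun w c h => ha.ok _ _ (hb.ok _ _ h)⟩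
      · show a (b t) = t
        rw [hb.fix t ht, ha.fix t ht]
      · show a (b v) - v ∈ T
        have h1 := hb.mid v hv
        have h2 : ∀ t ∈ T, H.h (b v) t = 0 := by
          intro t ht
          have e : b v = (b v - v) + v := by abel
          rw [e, H.add_left, ho _ h1 t ht, hv t ht, add_zero]
        have e : a (b v) - v = (a (b v) - b v) + (b v - v) := by abel
        rw [e]
        exact T.add_mem (ha.mid _ h2) h1
      · show H.h (a (b v) - v) t = 0
        have e : a (b v) - v = (a (b v) - b v) + (b v - v) := by abel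
        rw [e, H.add_left, ha.orth _ t ht, hb.orth _ t ht, add_zero]
    have sie : ∀ (u w : V) (c : F) (hu : H.h u u = 0) (hw : H.h u w = 0), u ∈ T → w ∈ W →
        P.ok w c → InRad P T (H.sie u w c hu hw) := by
      intro u w c hu hw huT hwW hwc
      have hwT : ∀ t ∈ T, H.h w t = 0 := fun t ht => H.orth_symm (hW t ht w hwW)
      refine ⟨fun t ht => ?_, fun v hv => ?_, fun v t ht => ?_, P.isIso_sie hu hw hwc,
        fun v d hv => P.ok_sie hu hw (hs u huT) hwc hv⟩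
      · rw [H.sie_apply, ho t ht u huT, hW t ht w hwW]
        simp
      · rw [H.sie_apply, hv u huT]
        have e : v + (0 : F) • w - (H.ε⁻¹ * H.h v w) • u + (c * 0) • u - v =
            (-(H.ε⁻¹ * H.h v w)) • u := by module
        rw [e]
        exact T.smul_mem _ huT
      · rw [H.sie_apply]
        have e : v + H.h v u • w - (H.ε⁻¹ * H.h v w) • u + (c * H.h v u) • u - v =
            H.h v u • w + (-(H.ε⁻¹ * H.h v w) + c * H.h v u) • u := by module
        rw [e, H.add_left, H.smul_left, H.smul_left, hwT t ht, ho u huT t ht]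
        ring
    induction hg using Subgroup.closure_induction with
    | mem g hg =>
      obtain ⟨u, w, c, hu, hw, huT, hwW, hwc, rfl⟩ := hg
      refine ⟨sie u w c hu hw huT hwW hwc, ?_⟩
      rw [H.sie_inv]
      exact sie u (-w) _ hu _ huT (W.neg_mem hwW) (P.inv hwc)
    | one => exact ⟨one, by rw [inv_one]; exact one⟩
    | mul g g' _ _ ih ih' =>
      exact ⟨mul g g' ih.1 ih'.1, by rw [mul_inv_rev]; exact mul _ _ ih'.2 ih.2⟩
    | inv g _ ih => exact ⟨ih.2, by rw [inv_inv]; exact ih.1⟩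
  exact (key g hg).1

/-- elements of `rad P T (T ⊔ M)` -/
theorem Dec.inRad (d : Dec P T M T') {g : V ≃ₗ[F] V} (hg : g ∈ rad P T (T ⊔ M)) :
    InRad P T g := by
  refine inRad_of_mem d.o1 d.s1 ?_ hg
  intro u hu w hw
  obtain ⟨t, ht, m, hm, rfl⟩ := Submodule.mem_sup.1 hw
  rw [H.add_right, d.o1 u hu t ht, d.m1 u hu m hm, add_zero]

/-- The element `x`. -/
structure XAct (P : PQ H) (T M T' : Submodule F V) (x : V ≃ₗ[F] V) : Prop where
  iso : H.IsIso x
  ok : ∀ w c, P.ok w c → P.ok (x w) c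
  t1 : ∀ u ∈ T, x u ∈ T
  t2 : ∀ u ∈ T', x u ∈ T'
  m : ∀ w ∈ M, x w = w

theorem XAct.symm {x : V ≃ₗ[F] V} (a : XAct P T M T' x) : XAct P T' M T x where
  iso := a.iso
  ok := a.ok
  t1 := a.t2
  t2 := a.t1
  m := a.m

/-- **Free action on the radical.** -/
theorem freeOn_rad [Finite V] (d : Dec P T M T') {x : V ≃ₗ[F] V} (a : XAct P T M T' x)
    (hfix : ∀ t ∈ T, x t = t → t = 0)
    (hτ : ∀ τ : V →ₗ[F] V, (∀ v ∈ T', τ v ∈ T) → (∀ v ∈ T', x (τ v) = τ (x v)) →
      ∀ v ∈ T', τ v = 0) : FreeOn x (rad P T (T ⊔ M)) := by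
  constructor
  · apply mem_normalizer_of_conj
    refine rad_conj a.iso a.ok a.t1 ?_
    intro w hw
    obtain ⟨t, ht, m, hm, rfl⟩ := Submodule.mem_sup.1 hw
    rw [map_add, a.m m hm]
    exact Submodule.add_mem_sup (a.t1 t ht) hm
  · intro g hg hxg
    have hr := d.inRad hg
    have hc : ∀ v, x (g v) = g (x v) := by
      intro v
      have h1 : x * g = g * x := by rwa [mul_inv_eq_iff_eq_mul] at hxg
      exact congrArg (fun f : V ≃ₗ[F] V => f v) h1
    have hM : ∀ m ∈ M, g m = m := by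
      intro m hm
      have h1 := hr.mid m (fun t ht => H.orth_symm (d.m1 t ht m hm))
      have h2 := hfix _ h1 (by rw [map_sub, hc, a.m m hm])
      exact sub_eq_zero.1 h2
    have hT' : ∀ v ∈ T', g v - v ∈ T := by
      intro v hv
      apply d.mem_of_orth2
      · exact hr.orth v
      · intro m hm
        have h1 := hr.iso v m
        rw [hM m hm] at h1
        rw [H.sub_left, h1, sub_self]
    have h0 := hτ ((g : V →ₗ[F] V) - LinearMap.id) (fun v hv => hT' v hv) (by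
      intro v hv
      show x (g v - v) = g (x v) - x v
      rw [map_sub, hc])
    ext v
    obtain ⟨t, ht, m, hm, t', ht', rfl⟩ := d.exists_eq v
    have h1 : g t' = t' := sub_eq_zero.1 (h0 t' ht')
    show g (t + m + t') = t + m + t'
    rw [map_add, map_add, hr.fix t ht, hM m hm, h1]

/-- The radical is an `r`-group. -/
theorem rad_isPGroup [Finite V] {r : ℕ} [Fact r.Prime] [CharP F r] (d : Dec P T M T') :
    IsPGroup r (rad P T (T ⊔ M)) := by
  obtain ⟨A, B, hAB, hle⟩ := rad_le_flagU (P₁ := P) (T := T) (W := T ⊔ M) d.o1 (by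
    intro u hu w hw
    obtain ⟨t, ht, m, hm, rfl⟩ := Submodule.mem_sup.1 hw
    rw [H.add_right, d.o1 u hu t ht, d.m1 u hu m hm, add_zero])
  rintro ⟨g, hg⟩
  obtain ⟨k, hk⟩ := flagU_isPGroup (r := r) A B hAB ⟨g, hle hg⟩
  have hk' : g ^ r ^ k = 1 := congrArg Subtype.val hk
  exact ⟨k, Subtype.ext hk'⟩

section Sub

variable {A : Type*} [Group A]

theorem FreeOn.subgroupOf {x : A} {R K : Subgroup A} (h : FreeOn x R) (hx : x ∈ K) :
    FreeOn (⟨x, hx⟩ : K) (R.subgroupOf K) := by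
  constructor
  · rw [mem_normalizer_iff]
    intro g
    exact mem_normalizer_iff.1 h.norm (g : A)
  · intro r hr hxr
    exact Subtype.ext (h.free r hr (congrArg Subtype.val hxr))

theorem relIndex_subgroupOf_eq {K R : Subgroup A} (hR : R ≤ K) (D : Subgroup K) :
    D.relIndex (R.subgroupOf K) = (D.map K.subtype).relIndex R := by
  have h1 := relIndex_map_map_of_injective D (R.subgroupOf K) K.subtype_injective
  rw [subgroupOf_map_subtype, inf_of_le_left hR] at h1
  exact h1.symm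

/-- Free action of a `p`-element on an `r`-group gives `PairM`. -/
theorem FreeOn.pairM [Finite A] {p k r m : ℕ} (hp : p.Prime) (hr : r.Prime) {x : A}
    {R : Subgroup A} (h : FreeOn x R) (hx : x ^ p ^ k = 1) (hR : IsPGroup r R)
    (hM : ∀ t : ℕ, t ≠ 0 → r ^ t ≡ 1 [MOD p] → m ≤ r ^ t) : PairM m x R :=
  PairM.of_pGroup hp hr hx hR h.norm
    (commFull_of_free (fun r hr => (mem_normalizer_iff.1 h.norm r).1 hr) h.free) hM

/-- the relative index in an `r`-group is a power of `r` -/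
theorem relIndex_eq_pow [Finite A] {r : ℕ} (hr : r.Prime) {R : Subgroup A} (hR : IsPGroup r R)
    (D : Subgroup A) : ∃ t, D.relIndex R = r ^ t := by
  have : Fact r.Prime := ⟨hr⟩
  obtain ⟨n, hn⟩ := IsPGroup.iff_card.1 hR
  have h1 := relIndex_mul_card D R
  rw [hn] at h1
  obtain ⟨t, -, ht⟩ := (Nat.dvd_prime_pow hr).1 (Dvd.intro _ h1)
  exact ⟨t, ht⟩

theorem isPGroup_subgroupOf {r : ℕ} {K R : Subgroup A} (hR : IsPGroup r R) :
    IsPGroup r (R.subgroupOf K) := by
  rintro ⟨g, hg⟩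
  obtain ⟨n, hn⟩ := hR ⟨g, hg⟩
  have h1 : (g : A) ^ r ^ n = 1 := congrArg Subtype.val hn
  exact ⟨n, Subtype.ext (Subtype.ext h1)⟩

end Sub

end Cfsg.Agent.H398.FPR
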