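import Cfsg.Agent.H398.FPR.MersAlg
import Cfsg.Agent.H398.FPR.FamEOne
import Cfsg.Agent.H409.FprCycD
import Cfsg.Agent.LieClassical.SLGen

/-!
# From rows to uniform bounds: generators of cyclic Sylow subgroups; central quotients
-/

set_option autoImplicit false
open Subgroup MulAction
open scoped Pointwise commutatorElement

namespace Cfsg.Agent.H398.FPR

open Cfsg.Agent.H409

section

variable {G : Type*} [Group G] [Finite G]

omit [Finite G] in
theorem card_fixedBy_conj {X : Type*} [MulAction G X] (g h : G) :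
    Nat.card (fixedBy X (h * g * h⁻¹)) = Nat.card (fixedBy X g) := by
  rw [← smul_fixedBy]
  exact Nat.card_image_of_injective (MulAction.injective h) _

omit [Finite G] in
theorem card_fixedBy_le_pow {X : Type*} [MulAction G X] [Finite X] (g : G) (i : ℤ) :
    Nat.card (fixedBy X g) ≤ Nat.card (fixedBy X (g ^ i)) := by
  apply Nat.card_le_card_of_injective (fun a => (⟨a.1, fixedBy_subset_fixedBy_zpow X g i a.2⟩ :
    fixedBy X (g ^ i)))
  intro a b hab
  exact Subtype.ext (congrArg (fun z : fixedBy X (g ^ i) => z.1) hab)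

/-- **A row gives the uniform bound for a generator of a cyclic Sylow subgroup.** -/
theorem uGood_of_row_cyc {p a : ℕ} [hp : Fact p.Prime] (P : Sylow p G) {y : G}
    (hy : zpowers y = (P : Subgroup G)) (h : FprRow a 1 p G) : UGood 1 a y := by
  intro H hH
  obtain ⟨x, ⟨k, hx⟩, hle⟩ := h H hH
  refine le_trans ?_ hle
  apply Nat.mul_le_mul_left
  -- `x` is conjugate to a power of `y`
  have hxp : IsPGroup p (zpowers x) := by
    rw [IsPGroup.iff_card]
    exact ⟨k, by rw [Nat.card_zpowers, hx]⟩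
  obtain ⟨Q, hQ⟩ := hxp.exists_le_sylow
  obtain ⟨g, hg⟩ := exists_smul_eq G P Q
  have hxQ : x ∈ (Q : Subgroup G) := hQ (mem_zpowers x)
  rw [← hg, Sylow.coe_subgroup_smul, ← hy] at hxQ
  obtain ⟨z, hz, hzx⟩ := (mem_smul_pointwise_iff_exists _ _ _).1 hxQ
  obtain ⟨i, rfl⟩ := mem_zpowers_iff.1 hz
  have hzx' : x = g * y ^ i * g⁻¹ := hzx.symm
  rw [hzx', card_fixedBy_conj]
  exact card_fixedBy_le_pow y i

/-- generators containing a given element -/
theorem exists_gen_cyc {p a : ℕ} [hp : Fact p.Prime] (P : Sylow p G) {y : G}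
    (hy : zpowers y = (P : Subgroup G)) (h : FprRow a 1 p G) {x : G} {k : ℕ}
    (hx : x ^ p ^ k = 1) : ∃ (y0 : G) (l kk : ℕ), y0 ^ p ^ kk = 1 ∧ UGood 1 a y0 ∧ y0 ^ l = x := by
  have hxp : IsPGroup p (zpowers x) := by
    obtain ⟨j, -, hj⟩ := (Nat.dvd_prime_pow hp.out).1 (orderOf_dvd_of_pow_eq_one hx)
    rw [IsPGroup.iff_card]
    exact ⟨j, by rw [Nat.card_zpowers, hj]⟩
  obtain ⟨Q, hQ⟩ := hxp.exists_le_sylow
  obtain ⟨g, hg⟩ := exists_smul_eq G P Q
  have hQy : (Q : Subgroup G) = zpowers (g * y * g⁻¹) := by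
    rw [← hg, Sylow.coe_subgroup_smul, ← hy]
    have := MonoidHom.map_zpowers (MulAut.conj g).toMonoidHom y
    exact this
  have hxQ : x ∈ (Q : Subgroup G) := hQ (mem_zpowers x)
  rw [hQy] at hxQ
  obtain ⟨l, hl⟩ := (isOfFinOrder_of_finite (g * y * g⁻¹)).mem_powers_iff_mem_zpowers.2 hxQ
  obtain ⟨kk, hkk⟩ := IsPGroup.iff_card.1 Q.isPGroup'
  refine ⟨g * y * g⁻¹, l, kk, ?_, uGood_of_row_cyc Q hQy.symm h, hl⟩
  have h1 : orderOf (g * y * g⁻¹) = p ^ kk := by
    rw [← Nat.card_zpowers, ← hQy]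
    exact hkk
  rw [← h1]
  exact pow_orderOf_eq_one _

/-- **Rows lift through central quotients of perfect groups** (kernel of order prime to `p`). -/
theorem FprRow.lift {S : Type*} [Group S] {a b p : ℕ} (hp : p.Prime) (f : G →* S)
    (hf : Function.Surjective f) (hker : f.ker ≤ center G) (hkp : ¬ p ∣ Nat.card f.ker)
    (hperf : commutator G = ⊤) (h : FprRow a b p S) : FprRow a b p G := by
  intro H hH
  have : Finite S := Finite.of_surjective f hf
  -- `f(H)` is proper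
  have hne : H.map f ≠ ⊤ := by
    intro htop
    apply hH
    have h1 : H ⊔ f.ker = ⊤ := by
      rw [← comap_map_eq, htop, comap_top]
    have hcen : f.ker ≤ centralizer (H : Set G) := hker.trans (center_le_centralizer _)
    -- `H` is normal with abelian quotient
    have hdec : ∀ g : G, ∃ h ∈ H, ∃ z ∈ f.ker, g = h * z := by
      intro g
      have hg : g ∈ H ⊔ f.ker := by rw [h1]; trivial
      obtain ⟨h, hh, z, hz, rfl⟩ := mem_sup_of_normal_right.1 hg
      exact ⟨h, hh, z, hz, rfl⟩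
    rw [eq_top_iff, ← hperf, _root_.commutator_def, commutator_le]
    intro g _ g' _
    obtain ⟨h, hh, z, hz, rfl⟩ := hdec g
    obtain ⟨h', hh', z', hz', rfl⟩ := hdec g'
    have c1 : ∀ w : G, z * w = w * z := fun w => ((mem_center_iff.1 (hker hz)) w).symm
    have c2 : ∀ w : G, z' * w = w * z' := fun w => ((mem_center_iff.1 (hker hz')) w).symm
    have e : ⁅h * z, h' * z'⁆ = ⁅h, h'⁆ := by
      rw [commutatorElement_def, commutatorElement_def, mul_inv_rev, mul_inv_rev]
      calc h * z * (h' * z') * (z⁻¹ * h⁻¹) * (z'⁻¹ * h'⁻¹)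
          = h * (z * h') * z' * z⁻¹ * h⁻¹ * z'⁻¹ * h'⁻¹ := by group
        _ = h * h' * (z * z') * z⁻¹ * h⁻¹ * z'⁻¹ * h'⁻¹ := by rw [c1 h']; group
        _ = h * h' * (z' * z) * z⁻¹ * h⁻¹ * z'⁻¹ * h'⁻¹ := by rw [c1 z']
        _ = h * h' * (z' * h⁻¹) * z'⁻¹ * h'⁻¹ := by group
        _ = h * h' * h⁻¹ * h'⁻¹ := by rw [c2 h⁻¹]; group
    rw [e]
    exact mul_mem (mul_mem (mul_mem hh hh') (inv_mem hh)) (inv_mem hh')
  obtain ⟨s, ⟨k, hs⟩, hle⟩ := h (H.map f) hne
  obtain ⟨g, rfl⟩ := hf s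
  -- a power of `g` of `p`-power order
  obtain ⟨n, hn⟩ : ∃ n, n = Nat.card f.ker := ⟨_, rfl⟩
  have hcop : Nat.Coprime n p := by
    rw [Nat.coprime_comm, hn]
    exact (Nat.Prime.coprime_iff_not_dvd hp).2 hkp
  have hgn : (g ^ n) ^ p ^ k = 1 := by
    have h1 : g ^ p ^ k ∈ f.ker := by
      rw [MonoidHom.mem_ker, map_pow, ← hs]
      exact pow_orderOf_eq_one _
    have h2 : (⟨g ^ p ^ k, h1⟩ : f.ker) ^ n = 1 := by rw [hn]; exact pow_card_eq_one'
    have h3 : (g ^ p ^ k) ^ n = 1 := congrArg Subtype.val h2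
    rw [← pow_mul, mul_comm, pow_mul, h3]
  -- fixed points
  have hfix : Nat.card (fixedBy (S ⧸ H.map f) (f (g ^ n))) = Nat.card (fixedBy (S ⧸ H.map f) (f g)) := by
    apply le_antisymm
    · -- `f g` is a power of `f (g ^ n)`
      have h4 : (orderOf (f g)).Coprime n := by
        rw [hs]
        exact (Nat.Coprime.pow_right k hcop).symm
      obtain ⟨m, hm⟩ := exists_pow_eq_self_of_coprime (n := n) (x := f g) h4.symm
      conv_rhs => rw [← hm]
      rw [map_pow]
      have := card_fixedBy_le_pow (X := S ⧸ H.map f) (f g ^ n) (m : ℤ)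
      rw [zpow_natCast] at this
      exact this
    · rw [map_pow]
      have := card_fixedBy_le_pow (X := S ⧸ H.map f) (f g) (n : ℤ)
      rw [zpow_natCast] at this
      exact this
  refine ⟨g ^ n, ?_, ?_⟩
  · obtain ⟨j, -, hj⟩ := (Nat.dvd_prime_pow hp).1 (orderOf_dvd_of_pow_eq_one hgn)
    exact ⟨j, hj⟩
  · let φ : G ⧸ H → S ⧸ H.map f := Quotient.map' f (by
      intro a b hab
      rw [QuotientGroup.leftRel_apply] at hab ⊢
      rw [← map_inv, ← map_mul]
      exact mem_map_of_mem f hab)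
    apply fix_le_of_map f hf φ
    · intro g' ω
      obtain ⟨w, rfl⟩ := QuotientGroup.mk_surjective ω
      show φ ((g' * w : G) : G ⧸ H) = f g' • φ (w : G ⧸ H)
      show ((f (g' * w) : S) : S ⧸ H.map f) = ((f g' * f w : S) : S ⧸ H.map f)
      rw [map_mul]
    · rw [hfix]
      exact hle

end

end Cfsg.Agent.H398.FPR
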